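import Cfsg.Agent.H31.Commutator.Big
import Cfsg.Agent.H31.Unitary.Defs

/-!
Unitary Levi factorisations from split classes: one or two corners next to a Jordan block.
-/

set_option autoImplicit false
set_option linter.unusedSectionVars false

namespace H27.SUFac

open Matrix Polynomial H21.ClassSquare H41 H41.Reg
open H31.Com (border_eq_blocks aeval_fromBlocks aeval_reindex aeval_conj aeval_scalJordan coprime_lin_rev reverse_pow
  pair_cls_inv isConj_cls_inv center_corner)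
open H31.Com.Uni

variable {K : Type*} [Field K] {n : ℕ} (σ : K →+* K)

/-- `Φ` is prime to the conjugate reverse of `Ψ`. -/
def Cop (Φ Ψ : K[X]) : Prop := IsCoprime Φ (Ψ.map σ).reverse

variable {σ}

theorem cop_lin {r s : K} (h : r * σ s ≠ 1) : Cop σ (X - C r) (X - C s) := by
  rw [Cop, Polynomial.map_sub, map_X, map_C]
  exact coprime_lin_rev h

theorem Cop.mul_left {Φ Φ' Ψ : K[X]} (h : Cop σ Φ Ψ) (h' : Cop σ Φ' Ψ) : Cop σ (Φ * Φ') Ψ :=
  IsCoprime.mul_left h h'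

theorem Cop.mul_right {Φ Ψ Ψ' : K[X]} (h : Cop σ Φ Ψ) (h' : Cop σ Φ Ψ') : Cop σ Φ (Ψ * Ψ') := by
  rw [Cop, Polynomial.map_mul, reverse_mul_of_domain]
  exact IsCoprime.mul_right h h'

theorem Cop.pow_left {Φ Ψ : K[X]} (h : Cop σ Φ Ψ) (k : ℕ) : Cop σ (Φ ^ k) Ψ := IsCoprime.pow_left h

theorem Cop.pow_right {Φ Ψ : K[X]} (h : Cop σ Φ Ψ) (k : ℕ) : Cop σ Φ (Ψ ^ k) := by
  rw [Cop, Polynomial.map_pow, reverse_pow]
  exact IsCoprime.pow_right h

/-- The quotient `σ d / d` has norm one. -/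
theorem norm_quot [Invol σ] {d : K} (hd : d ≠ 0) : σ d / d * σ (σ d / d) = 1 := by
  have h : σ d ≠ 0 := (map_ne_zero σ).2 hd
  rw [map_div₀, Invol.invol]
  field_simp

/-- The determinant condition in odd dimension is automatic for an admissible root. -/
theorem quot_ne [Invol σ] {d r : K} (hd : d ≠ 0) (hr : r * σ r ≠ 1) : σ d / d - r ≠ 0 :=
  fun e => hr (by rw [← sub_eq_zero.1 e]; exact norm_quot hd)

theorem aeval_border {Ψ : K[X]} {B : Matrix (Fin n) (Fin n) K} (h : aeval B Ψ = 0) (c : K) :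
    aeval (border c 0 0 B) (Ψ * (X - C c)) = 0 := by
  rw [border_eq_blocks, aeval_reindex, aeval_fromBlocks, map_mul, map_mul, h]
  simp [Algebra.algebraMap_eq_smul_one]

theorem aeval_cls (c l : Kˣ) :
    aeval ((cls c l n : GL (Fin (n + 1)) K) : Matrix (Fin (n + 1)) (Fin (n + 1)) K)
      (((X - C (l : K)) ^ n) * (X - C (c : K))) = 0 := by
  rw [show ((cls c l n : GL (Fin (n + 1)) K) : Matrix (Fin (n + 1)) (Fin (n + 1)) K) =
      border (c : K) 0 0 ((l : K) • jordan K n) by simp [cls]]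
  exact aeval_border (aeval_scalJordan _) _

/-- A quotient of two members of the class of `A`, with a centraliser of every determinant. -/
theorem cfac_of_pair {m e : ℕ} {Φ : K[X]} (A B : GL (Fin m) K)
    (hA : aeval (A : Matrix (Fin m) (Fin m) K) Φ = 0) (hc : Cop σ Φ Φ)
    (hd : DetOK σ e (A : Matrix (Fin m) (Fin m) K) Φ)
    (hz : ∀ t : Kˣ, ∃ z : GL (Fin m) K, Commute z A ∧ (z : Matrix (Fin m) (Fin m) K).det = t)
    (hB : IsConj B A⁻¹) (M : GL (Fin m) K) (h : ∃ x y, IsConj A x ∧ IsConj B y ∧ M = x * y) :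
    CFac σ e (M : Matrix (Fin m) (Fin m) K) := by
  obtain ⟨x, y, hx, hy, rfl⟩ := h
  obtain ⟨g, rfl⟩ := isConj_iff.1 hx
  obtain ⟨k, hk⟩ := isConj_iff.1 (hB.symm.trans hy)
  subst hk
  obtain ⟨z, hzc, hzd⟩ := hz (Matrix.GeneralLinearGroup.det (k * g⁻¹))⁻¹
  have hdetA : ((g * A * g⁻¹ : GL (Fin m) K) : Matrix (Fin m) (Fin m) K).det = (A : Matrix (Fin m) (Fin m) K).det := by
    rw [Units.val_mul, Units.val_mul, ← Matrix.det_units_conj g (A : Matrix (Fin m) (Fin m) K), Matrix.coe_units_inv]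
  refine ⟨Φ, ((g * A * g⁻¹ : GL (Fin m) K) : Matrix (Fin m) (Fin m) K),
    ((k * z * g⁻¹ : GL (Fin m) K) : Matrix (Fin m) (Fin m) K), ?_, ?_, ?_, hc, ?_, Or.inl ?_⟩
  · exact ((isUnit_iff_isUnit_det _).1 (g * A * g⁻¹).isUnit).ne_zero
  · rw [Units.val_mul, Units.val_mul, det_mul, det_mul, hzd, mul_right_comm, ← det_mul, ← Units.val_mul,
      ← GeneralLinearGroup.val_det_apply, ← Units.val_mul, mul_inv_cancel, Units.val_one]
  · have h1 := aeval_conj (P := (g : Matrix (Fin m) (Fin m) K)) (A := (A : Matrix (Fin m) (Fin m) K))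
      (B := ((g * A * g⁻¹ : GL (Fin m) K) : Matrix (Fin m) (Fin m) K))
      (by rw [← Units.val_mul, ← Units.val_mul]; congr 1; group) Φ
    rw [hA, Matrix.mul_zero] at h1
    exact (Units.mul_left_eq_zero g).1 h1.symm
  · exact ⟨fun h0 => by rw [hdetA]; exact hd.1 h0, fun h0 => by rw [hdetA]; exact hd.2 h0⟩
  · rw [← Units.val_mul, ← Units.val_mul, ← Units.val_mul]
    congr 1
    calc g * A * g⁻¹ * (k * A⁻¹ * k⁻¹) * (k * z * g⁻¹) * (g * A * g⁻¹)
        = g * A * g⁻¹ * (k * (A⁻¹ * (z * A)) * g⁻¹) := by group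
      _ = g * A * g⁻¹ * (k * z * g⁻¹) := by rw [hzc.eq]; group

variable [Fintype K] [Invol σ] {e : ℕ}

theorem cfac_cls (hK : 4 ≤ Fintype.card K) {c l : Kˣ} (hll : (l : K) * σ l ≠ 1) (hcc : (c : K) * σ c ≠ 1)
    (hlc : (l : K) * σ c ≠ 1) (hcl : (c : K) * σ l ≠ 1) (hne : (c : K) ≠ l)
    (h0 : e = 0 → σ ((c : K) * (l : K) ^ (n + 1)) = (c : K) * (l : K) ^ (n + 1)) :
    SLFacU σ (n + 2) e := fun M hdet hns => by
  let g : GL (Fin (n + 2)) K := GeneralLinearGroup.mk'' M (by rw [hdet]; exact isUnit_one)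
  have hL : Cop σ (X - C (l : K)) ((X - C (l : K)) ^ (n + 1) * (X - C (c : K))) :=
    ((cop_lin hll).pow_right _).mul_right (cop_lin hlc)
  have hC : Cop σ (X - C (c : K)) ((X - C (l : K)) ^ (n + 1) * (X - C (c : K))) :=
    ((cop_lin hcl).pow_right _).mul_right (cop_lin hcc)
  refine cfac_of_pair (cls c l (n + 1)) _ (aeval_cls c l) ((hL.pow_left _).mul_left hC) ⟨fun h => ?_, fun _ => ?_⟩
    (center_corner c _) (isConj_cls_inv c l) g (pair_cls_inv hK hne g hns hdet)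
  · rw [det_cls]; exact h0 h
  · have hd : ((cls c l (n + 1) : GL (Fin (n + 2)) K) : Matrix (Fin (n + 2)) (Fin (n + 2)) K).det ≠ 0 := by
      rw [det_cls]; exact mul_ne_zero c.ne_zero (pow_ne_zero _ l.ne_zero)
    simp only [eval_mul, eval_pow, eval_sub, eval_X, eval_C]
    exact mul_ne_zero (pow_ne_zero _ (quot_ne hd hll)) (quot_ne hd hcc)

theorem cfac_double (hK : 4 ≤ Fintype.card K) {c d l : Kˣ}
    (hr : ∀ r ∈ [(c : K), (d : K), (l : K)], ∀ s ∈ [(c : K), (d : K), (l : K)], r * σ s ≠ 1)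
    (hcd : (c : K) ≠ d) (hcl : (c : K) ≠ l) (hdl : (d : K) ≠ l)
    (h0 : e = 0 → σ ((c : K) * ((d : K) * (l : K) ^ (n + 1))) = (c : K) * ((d : K) * (l : K) ^ (n + 1))) :
    SLFacU σ (n + 3) e := fun M hdet hns => by
  let g : GL (Fin (n + 3)) K := GeneralLinearGroup.mk'' M (by rw [hdet]; exact isUnit_one)
  set U := cls d l (n + 1) with hU
  have hA : aeval ((cornerHom (c, U) : GL (Fin (n + 3)) K) : Matrix (Fin (n + 3)) (Fin (n + 3)) K)
      ((X - C (l : K)) ^ (n + 1) * (X - C (d : K)) * (X - C (c : K))) = 0 := by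
    rw [coe_cornerHom]
    exact aeval_border (aeval_cls d l) _
  have hP : ∀ r ∈ [(c : K), (d : K), (l : K)],
      Cop σ (X - C r) ((X - C (l : K)) ^ (n + 1) * (X - C (d : K)) * (X - C (c : K))) := fun r h =>
    (((cop_lin (hr r h l (by simp))).pow_right _).mul_right (cop_lin (hr r h d (by simp)))).mul_right
      (cop_lin (hr r h c (by simp)))
  have hdA : ((cornerHom (c, U) : GL (Fin (n + 3)) K) : Matrix (Fin (n + 3)) (Fin (n + 3)) K).det =
      (c : K) * ((d : K) * (l : K) ^ (n + 1)) := by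
    rw [coe_cornerHom, det_border_zero_col, hU, det_cls]
  have hB : IsConj (cornerHom (c⁻¹, cornerHom (d⁻¹, scal l⁻¹ * jordanGL K (n + 1)))) (cornerHom (c, U))⁻¹ := by
    rw [← map_inv, Prod.inv_mk]
    exact isConj_cornerHom _ (isConj_cls_inv _ _)
  have hu : IsUnit ((U : Matrix (Fin (n + 2)) (Fin (n + 2)) K) - (c : K) • 1).det := by
    rw [hU, det_cls_sub]
    exact (IsUnit.mk0 _ (sub_ne_zero.2 hcd.symm)).mul ((IsUnit.mk0 _ (sub_ne_zero.2 hcl.symm)).pow _)
  have hv : IsUnit (((cornerHom (d⁻¹, scal l⁻¹ * jordanGL K (n + 1)) : GL (Fin (n + 2)) K) :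
      Matrix (Fin (n + 2)) (Fin (n + 2)) K) - ((c⁻¹ : Kˣ) : K) • 1).det := by
    have h := det_cls_sub (n := n + 1) d⁻¹ l⁻¹ ((c⁻¹ : Kˣ) : K)
    simp only [cls] at h
    rw [h]
    refine (IsUnit.mk0 _ (sub_ne_zero.2 fun e => hcd ?_)).mul
      ((IsUnit.mk0 _ (sub_ne_zero.2 fun e => hcl ?_)).pow _) <;>
      exact inv_injective (by simpa using e.symm)
  refine cfac_of_pair (cornerHom (c, U)) _ hA
    ((((hP _ (by simp)).pow_left _).mul_left (hP _ (by simp))).mul_left (hP _ (by simp)))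
    ⟨fun h => by rw [hdA]; exact h0 h, fun _ => ?_⟩ (center_corner c _) hB g
    (pair_step hu hv (fun N hN hd => pair_cls_inv hK hdl N (hN.resolve_left (Nat.succ_ne_zero _)) (by
        rw [hd, hU, det_cls]; simp [det_border_zero_col, det_jordan]; field_simp)) g hns (by
      rw [show (g : Matrix (Fin (n + 3)) (Fin (n + 3)) K) = M from rfl, hdet, hU, det_cls]
      simp [det_border_zero_col, det_jordan]; field_simp))
  have hd0 : ((cornerHom (c, U) : GL (Fin (n + 3)) K) : Matrix (Fin (n + 3)) (Fin (n + 3)) K).det ≠ 0 := by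
    rw [hdA]; exact mul_ne_zero c.ne_zero (mul_ne_zero d.ne_zero (pow_ne_zero _ l.ne_zero))
  simp only [eval_mul, eval_pow, eval_sub, eval_X, eval_C]
  exact mul_ne_zero (mul_ne_zero (pow_ne_zero _ (quot_ne hd0 (hr _ (by simp) _ (by simp))))
    (quot_ne hd0 (hr _ (by simp) _ (by simp)))) (quot_ne hd0 (hr _ (by simp) _ (by simp)))

end H27.SUFac
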