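import Cfsg.Agent.H27.SUFac.Nine

/-!
Unitary Levi factorisations over `q²` elements, `q ≥ 3`.
-/

set_option autoImplicit false
set_option linter.unusedSectionVars false

namespace H27.SUFac

open Matrix Polynomial H21.ClassSquare H41 H41.Reg
open H31.Com.Uni

variable {K : Type*} [Field K] [Fintype K] {σ : K →+* K} {q : ℕ}

theorem exists_gen (hq : Fintype.card K = q ^ 2) (_hq2 : 2 ≤ q) : ∃ g : Kˣ, orderOf g = q ^ 2 - 1 := by
  classical
  obtain ⟨g, hg⟩ := IsCyclic.exists_generator (α := Kˣ)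
  exact ⟨g, by rw [orderOf_eq_card_of_forall_mem_zpowers hg, Nat.card_units, Nat.card_eq_fintype_card, hq]⟩

theorem gen_pow_eq {g : Kˣ} {N : ℕ} (hg : orderOf g = N) (a b : ℕ) :
    ((g ^ a : Kˣ) : K) = ((g ^ b : Kˣ) : K) ↔ a % N = b % N := by
  rw [Units.val_inj, pow_eq_pow_iff_modEq, hg]
  rfl

theorem gen_sigma (hσ : ∀ x, σ x = x ^ q) (g : Kˣ) (b : ℕ) : σ ((g ^ b : Kˣ) : K) = ((g ^ (q * b) : Kˣ) : K) := by
  rw [hσ, ← Units.val_pow_eq_pow_val, ← pow_mul, mul_comm]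

theorem gen_cond (hσ : ∀ x, σ x = x ^ q) {g : Kˣ} {N : ℕ} (hg : orderOf g = N) {a b : ℕ} (h : (a + q * b) % N ≠ 0) :
    ((g ^ a : Kˣ) : K) * σ ((g ^ b : Kˣ) : K) ≠ 1 := by
  rw [gen_sigma hσ, ← Units.val_mul, ← pow_add]
  intro e
  exact h (by rw [((gen_pow_eq hg _ 0).1 (by rw [e, pow_zero, Units.val_one])), Nat.zero_mod])

theorem gen_fixed (hσ : ∀ x, σ x = x ^ q) {g : Kˣ} {N : ℕ} (hg : orderOf g = N) {s : ℕ} (h : (q * s) % N = s % N) :
    σ ((g ^ s : Kˣ) : K) = ((g ^ s : Kˣ) : K) := by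
  rw [gen_sigma hσ, gen_pow_eq hg]
  exact h

variable [Invol σ] {e : ℕ}

/-- Exponent form of the one corner case. -/
theorem cfac_cls_exp (hσ : ∀ x, σ x = x ^ q) (hK : 4 ≤ Fintype.card K) {g : Kˣ} {N : ℕ} (hg : orderOf g = N)
    {n i j : ℕ} (h : (i + q * i) % N ≠ 0 ∧ (j + q * j) % N ≠ 0 ∧ (i + q * j) % N ≠ 0 ∧ (j + q * i) % N ≠ 0 ∧
      j % N ≠ i % N)
    (h0 : (q * (j + i * (n + 1))) % N = (j + i * (n + 1)) % N) : SLFacU σ (n + 2) e := by
  obtain ⟨h1, h2, h3, h4, h5⟩ := h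
  refine cfac_cls hK (c := g ^ j) (l := g ^ i) (gen_cond hσ hg h1) (gen_cond hσ hg h2) (gen_cond hσ hg h3)
    (gen_cond hσ hg h4) (fun e => h5 ((gen_pow_eq hg _ _).1 e)) fun _ => ?_
  have := gen_fixed hσ hg h0
  rwa [pow_add, pow_mul, Units.val_mul, Units.val_pow_eq_pow_val] at this

theorem slFacU_four (hσ : ∀ x, σ x = x ^ 4) (hq : Fintype.card K = 16) (n : ℕ) : SLFacU σ (n + 2) e := by
  obtain ⟨g, hg⟩ := exists_gen (K := K) (q := 4) (by rw [hq]; norm_num) (by norm_num)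
  norm_num at hg
  rcases (show n % 5 = 0 ∨ n % 5 = 1 ∨ n % 5 = 2 ∨ n % 5 = 3 ∨ n % 5 = 4 by omega) with h | h | h | h | h
  · exact cfac_cls_exp hσ (by omega) hg (i := 1) (j := 4) (by decide) (by omega)
  · exact cfac_cls_exp hσ (by omega) hg (i := 1) (j := 8) (by decide) (by omega)
  · exact cfac_cls_exp hσ (by omega) hg (i := 1) (j := 2) (by decide) (by omega)
  · obtain ⟨j, rfl⟩ : ∃ j, n = j + 1 := ⟨n - 1, by omega⟩
    refine cfac_double (by omega) (c := g ^ 2) (d := g ^ 5) (l := g ^ 1) ?_ ?_ ?_ ?_ fun _ => ?_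
    · intro r hr s hs
      simp only [List.mem_cons, List.not_mem_nil, or_false] at hr hs
      rcases hr with rfl | rfl | rfl <;> rcases hs with rfl | rfl | rfl <;> exact gen_cond hσ hg (by norm_num)
    · exact fun e => absurd ((gen_pow_eq hg _ _).1 e) (by norm_num)
    · exact fun e => absurd ((gen_pow_eq hg _ _).1 e) (by norm_num)
    · exact fun e => absurd ((gen_pow_eq hg _ _).1 e) (by norm_num)
    · have := gen_fixed hσ hg (s := 2 + (5 + 1 * (j + 1))) (by omega)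
      rwa [pow_add, pow_add, pow_mul, Units.val_mul, Units.val_mul, Units.val_pow_eq_pow_val _ (j + 1)] at this
  · exact cfac_cls_exp hσ (by omega) hg (i := 1) (j := 5) (by decide) (by omega)

theorem slFacU_five (hσ : ∀ x, σ x = x ^ 5) (hq : Fintype.card K = 25) (n : ℕ) : SLFacU σ (n + 2) e := by
  obtain ⟨g, hg⟩ := exists_gen (K := K) (q := 5) (by rw [hq]; norm_num) (by norm_num)
  norm_num at hg
  rcases (show n % 6 = 0 ∨ n % 6 = 1 ∨ n % 6 = 2 ∨ n % 6 = 3 ∨ n % 6 = 4 ∨ n % 6 = 5 by omega) with h | h | h | h | h | h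
  · exact cfac_cls_exp hσ (by omega) hg (i := 1) (j := 5) (by decide) (by omega)
  · exact cfac_cls_exp hσ (by omega) hg (i := 1) (j := 10) (by decide) (by omega)
  · exact cfac_cls_exp hσ (by omega) hg (i := 1) (j := 3) (by decide) (by omega)
  · exact cfac_cls_exp hσ (by omega) hg (i := 1) (j := 2) (by decide) (by omega)
  · exact cfac_cls_exp hσ (by omega) hg (i := 1) (j := 7) (by decide) (by omega)
  · exact cfac_cls_exp hσ (by omega) hg (i := 1) (j := 6) (by decide) (by omega)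

theorem slFacU_three (hσ : ∀ x, σ x = x ^ 3) (hq : Fintype.card K = 9) (n : ℕ) : SLFacU σ (n + 2) e := by
  classical
  obtain ⟨g, hg2, hg⟩ := exists_gen_nine hq
  by_cases h4 : n % 4 = 0
  · exact cfac_cls_exp hσ (by omega) hg (i := 1) (j := 7) (by decide) (by omega)
  obtain ⟨k, rfl⟩ : ∃ k, n = k + 1 := ⟨n - 1, by omega⟩
  obtain ⟨emb, e1, e2, hgood⟩ := good_of_goodP hq hσ hg2
  have hb2 : (g : K) * g ≠ 1 := fun e => by
    rw [← sq, ← Units.val_pow_eq_pow_val, Units.val_eq_one] at e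
    exact pow_ne_one_of_lt_orderOf (by norm_num) (by omega) e
  have hG1 : Good σ ((g ^ 1 : Kˣ) : K) (emb (1, 0)) := by rw [pow_one, ← e1]; exact hgood _ _ goodP_one (by decide)
  have hG2 : Good σ ((g ^ 2 : Kˣ) : K) (emb (1, 0)) := by
    rw [Units.val_pow_eq_pow_val, sq, ← e2]; exact hgood _ _ goodP_two (by decide)
  have fx : ∀ a i : ℕ, (3 * (a + i * (k + 1))) % 8 = (a + i * (k + 1)) % 8 →
      σ (((g ^ a : Kˣ) : K) * ((g ^ i : Kˣ) : K) ^ (k + 1)) = ((g ^ a : Kˣ) : K) * ((g ^ i : Kˣ) : K) ^ (k + 1) := by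
    intro a i h
    have := gen_fixed hσ hg h
    rwa [pow_add, pow_mul, Units.val_mul, Units.val_pow_eq_pow_val _ (k + 1)] at this
  rcases (show k % 4 = 0 ∨ k % 4 = 1 ∨ k % 4 = 2 by omega) with h | h | h
  · exact cfac_quad hq hG1 (l := g ^ 3) (Nat.even_iff.2 (by omega)) (gen_cond hσ hg (by norm_num)) g.ne_zero hb2
      fun _ => fx 1 3 (by omega)
  · refine cfac_four hq hG2 (l := g ^ 1) (β := g ^ 3) (gen_cond hσ hg (by norm_num)) (gen_cond hσ hg (by norm_num))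
      (gen_cond hσ hg (by norm_num)) (gen_cond hσ hg (by norm_num))
      (fun e => absurd ((gen_pow_eq hg _ _).1 e) (by norm_num)) g.ne_zero hb2 (fun δ hδ => ?_)
      (fun _ => fx 2 1 (by omega)) fun _ => ?_
    · by_cases h1 : δ = 1
      · refine ⟨((g ^ 6 : Kˣ) : K), (g : K), fun e => ?_, ?_⟩
        · exact absurd ((gen_pow_eq hg 6 0).1 (by rw [e, pow_zero, Units.val_one])) (by norm_num)
        · rw [h1, ← Units.val_mul, ← Units.val_mul, ← sq, ← pow_add, show 6 + 2 = orderOf g by rw [hg], pow_orderOf_eq_one, Units.val_one]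
      · exact ⟨δ, 1, h1, by ring⟩
    · rw [← Units.val_mul, ← pow_add]
      exact fx 6 1 (by omega)
  · exact cfac_quad hq hG1 (l := g ^ 1) (Nat.even_iff.2 (by omega)) (gen_cond hσ hg (by norm_num)) g.ne_zero hb2
      fun _ => fx 1 1 (by omega)

theorem slFacU_six (hσ : ∀ x, σ x = x ^ q) (hq : Fintype.card K = q ^ 2) (h6 : 6 ≤ q) (n : ℕ) :
    SLFacU σ (n + 2) e := by
  obtain ⟨g, hg⟩ := exists_gen (K := K) hq (by omega)
  have hfac : q ^ 2 - 1 = (q + 1) * (q - 1) := by simpa using Nat.sq_sub_sq q 1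
  obtain ⟨l, hl⟩ : ∃ l : Kˣ, orderOf l = q - 1 := ⟨g ^ (q + 1), by
    rw [orderOf_pow' g (by omega), hg, hfac, Nat.gcd_eq_right (dvd_mul_right _ _), Nat.mul_div_cancel_left _ (by omega)]⟩
  have hfix : σ (l : K) = l := by
    rw [hσ, ← Units.val_pow_eq_pow_val, show q = (q - 1) + 1 by omega, pow_succ, ← hl, pow_orderOf_eq_one, one_mul]
  have hne : ∀ i, i ≠ 0 → i ≤ 4 → (l : K) ^ i ≠ 1 := fun i hi hi4 e => by
    rw [← Units.val_pow_eq_pow_val, Units.val_eq_one] at e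
    exact pow_ne_one_of_lt_orderOf hi (by omega) e
  have hK : 4 ≤ Fintype.card K := by rw [hq, sq]; nlinarith
  refine cfac_cls hK (c := l ^ 2) (l := l) ?_ ?_ ?_ ?_ ?_ fun _ => by
    simp only [Units.val_pow_eq_pow_val, map_mul, map_pow, hfix]
  · rw [hfix, ← sq]; exact hne 2 (by norm_num) (by norm_num)
  · simp only [Units.val_pow_eq_pow_val, map_pow, hfix, ← pow_add]; exact hne 4 (by norm_num) le_rfl
  · simp only [Units.val_pow_eq_pow_val, map_pow, hfix, ← pow_succ']; exact hne 3 (by norm_num) (by norm_num)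
  · simp only [Units.val_pow_eq_pow_val, hfix, ← pow_succ]; exact hne 3 (by norm_num) (by norm_num)
  · intro e
    rw [Units.val_pow_eq_pow_val, sq] at e
    exact hne 1 one_ne_zero (by norm_num) (by rw [pow_one]; exact mul_left_cancel₀ l.ne_zero (by rw [mul_one]; exact e))

/-- **The factorisations for `q ≥ 3`.** -/
theorem slFacU_big {m e : ℕ} (hq : Fintype.card K = q ^ 2) (hσ : ∀ x, σ x = x ^ q) (h3 : 3 ≤ q) (hm : 2 ≤ m)
    (_he : e ≤ 1) : SLFacU σ m e := by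
  obtain ⟨n, rfl⟩ : ∃ n, m = n + 2 := ⟨m - 2, by omega⟩
  rcases (show q = 3 ∨ q = 4 ∨ q = 5 ∨ 6 ≤ q by omega) with rfl | rfl | rfl | h
  · exact slFacU_three hσ (by rw [hq]; norm_num) n
  · exact slFacU_four hσ (by rw [hq]; norm_num) n
  · exact slFacU_five hσ (by rw [hq]; norm_num) n
  · exact slFacU_six hσ hq h n

/-- The identity in size one. -/
theorem cfac_one_big (hq : Fintype.card K = q ^ 2) (hσ : ∀ x, σ x = x ^ q) (h3 : 3 ≤ q) :
    CFac σ 1 (1 : Matrix (Fin 1) (Fin 1) K) := by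
  obtain ⟨g, hg⟩ := exists_gen (K := K) hq (by omega)
  have hgσ : ((g ^ 1 : Kˣ) : K) * σ ((g ^ 1 : Kˣ) : K) ≠ 1 := gen_cond hσ hg (by
    have h9 : 3 * q ≤ q ^ 2 := by rw [sq]; exact Nat.mul_le_mul_right q h3
    rw [Nat.mod_eq_of_lt (by omega)]
    omega)
  rw [pow_one] at hgσ
  refine ⟨Polynomial.X - C (g : K), (g : K) • 1, 1, by simp, det_one, ?_, cop_lin hgσ,
    ⟨fun h => absurd h one_ne_zero, fun _ => ?_⟩, Or.inl (by simp)⟩
  · simp [Algebra.algebraMap_eq_smul_one]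
  · simp only [eval_sub, eval_X, eval_C]
    exact quot_ne (by simp) hgσ

end H27.SUFac
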