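import Cfsg.Agent.H27.SUFac.Basic
import Cfsg.Agent.H31.Commutator.Comp

/-!
A two by two corner next to a Jordan block.
-/

set_option autoImplicit false
set_option linter.unusedSectionVars false
set_option linter.unusedSimpArgs false

namespace H27.SUFac

open Matrix Polynomial H21.ClassSquare H41 H41.Reg
open H31.Com (Fac SimTo aeval_fromBlocks aeval_conj aeval_scalJordan intertwine_eq_zero exists_sylvester pair_scal_inv)
open H89.CN (Sim)

variable {K : Type*} [Field K]

/-- A corner step with an arbitrary block in the corner. -/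
theorem fac_block {ι κ : Type*} [Fintype ι] [DecidableEq ι] [Fintype κ] [DecidableEq κ] {Φ Ψ : K[X]}
    (hcop : IsCoprime Φ Ψ) {X A P : Matrix ι ι K} {N B Q : Matrix κ κ K} (hA : aeval A Φ = 0) (hB : aeval B Ψ = 0)
    (hP : IsUnit P.det) (hPQ : P.det * Q.det = 1) (hX : X * P * A = A * P) (hN : N * Q * B = B * Q)
    (v : Matrix ι κ K) (c : Matrix κ ι K) :
    Fac (Φ * Ψ) (A.det * B.det) (fromBlocks X (X * v) c (c * v + N)) := by
  have hPi : P * P⁻¹ = 1 := Matrix.mul_nonsing_inv _ hP
  have hiP : P⁻¹ * P = 1 := Matrix.nonsing_inv_mul _ hP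
  set A' := P * A * P⁻¹ with hA'
  have hA'P : A' * P = P * A := by rw [hA', Matrix.mul_assoc, hiP, Matrix.mul_one]
  have hXA : X * A' = A := by
    rw [hA', ← Matrix.mul_assoc, ← Matrix.mul_assoc, hX, Matrix.mul_assoc, hPi, Matrix.mul_one]
  have hA'Φ : aeval A' Φ = 0 := by
    have h := aeval_conj (P := P) (A := A) (B := A') hA'P.symm Φ
    rw [hA, Matrix.mul_zero] at h
    have h2 := congrArg (· * P⁻¹) h.symm
    simpa [Matrix.mul_assoc, hPi] using h2
  obtain ⟨Z, hZ⟩ := exists_sylvester hcop hA hB (c * A')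
  obtain ⟨W, hW⟩ := exists_sylvester hcop.symm hB hA'Φ (-(v * Q * B))
  have hW' : W * B + v * Q * B = A' * W := by
    rw [← sub_eq_zero, show W * B + v * Q * B - A' * W = (W * B - A' * W) + v * Q * B by abel, hW, neg_add_cancel]
  refine ⟨fromBlocks 1 0 Z 1 * fromBlocks A 0 0 B * fromBlocks 1 0 (-Z) 1,
    fromBlocks P W 0 Q * fromBlocks 1 0 (-Z) 1, ?_, ?_, ?_, ?_⟩
  · simp [det_mul]
  · simp [det_mul, hPQ]
  · have h1 := aeval_conj (P := fromBlocks 1 0 Z 1) (A := fromBlocks A 0 0 B)
      (B := fromBlocks 1 0 Z 1 * fromBlocks A 0 0 B * fromBlocks 1 0 (-Z) 1)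
      (by simp [fromBlocks_multiply]) (Φ * Ψ)
    rw [aeval_fromBlocks, map_mul, map_mul, hA, hB, Matrix.zero_mul, Matrix.mul_zero, fromBlocks_zero,
      Matrix.mul_zero] at h1
    have h2 := congrArg (· * fromBlocks 1 0 (-Z) 1) h1.symm
    simpa [Matrix.mul_assoc, fromBlocks_multiply] using h2
  · have hL : fromBlocks X (X * v) c (c * v + N) * fromBlocks P W 0 Q * fromBlocks A 0 0 B =
        fromBlocks A 0 (c * A') B * fromBlocks P W 0 Q := by
      simp only [fromBlocks_multiply, Matrix.mul_zero, Matrix.zero_mul, add_zero, zero_add]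
      congr 1
      · calc (X * W + X * v * Q) * B = X * (W * B + v * Q * B) := by
              simp only [Matrix.add_mul, Matrix.mul_add, Matrix.mul_assoc]
          _ = A * W := by rw [hW', ← Matrix.mul_assoc, hXA]
      · rw [Matrix.mul_assoc c, ← hA'P, ← Matrix.mul_assoc]
      · calc (c * W + (c * v + N) * Q) * B = c * (W * B + v * Q * B) + N * Q * B := by
              simp only [Matrix.add_mul, Matrix.mul_add, Matrix.mul_assoc, add_assoc]
          _ = c * A' * W + B * Q := by rw [hW', hN, ← Matrix.mul_assoc]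
    have hT : fromBlocks 1 0 Z 1 * fromBlocks A 0 0 B * fromBlocks 1 0 (-Z) 1 = fromBlocks A 0 (c * A') B := by
      simp [fromBlocks_multiply, ← hZ, sub_eq_add_neg]
    have hTT : fromBlocks 1 0 (-Z) 1 * fromBlocks 1 0 Z 1 = (1 : Matrix (ι ⊕ κ) (ι ⊕ κ) K) := by
      simp [fromBlocks_multiply]
    calc fromBlocks X (X * v) c (c * v + N) * (fromBlocks P W 0 Q * fromBlocks 1 0 (-Z) 1) *
          (fromBlocks 1 0 Z 1 * fromBlocks A 0 0 B * fromBlocks 1 0 (-Z) 1)
        = fromBlocks X (X * v) c (c * v + N) * fromBlocks P W 0 Q * (fromBlocks 1 0 (-Z) 1 * fromBlocks 1 0 Z 1) *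
            fromBlocks A 0 0 B * fromBlocks 1 0 (-Z) 1 := by simp only [Matrix.mul_assoc]
      _ = fromBlocks A 0 (c * A') B * (fromBlocks P W 0 Q * fromBlocks 1 0 (-Z) 1) := by
          rw [hTT, Matrix.mul_one, hL, Matrix.mul_assoc]
      _ = _ := by rw [hT]

/-- The two top indices and the rest. -/
def headEquiv (k : ℕ) : Fin 2 ⊕ Fin k ≃ Fin (k + 2) where
  toFun := Sum.elim ![0, (0 : Fin (k + 1)).succ] fun i => i.succ.succ
  invFun := Fin.cases (Sum.inl 0) (Fin.cases (Sum.inl 1) Sum.inr)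
  left_inv := by
    rintro (i | i)
    · fin_cases i <;> rfl
    · simp
  right_inv i := by
    cases i using Fin.cases with
    | zero => simp
    | succ i => cases i using Fin.cases <;> rfl

@[simp] theorem headEquiv_symm_zero (k : ℕ) : (headEquiv k).symm 0 = Sum.inl 0 := rfl

@[simp] theorem headEquiv_symm_one (k : ℕ) : (headEquiv k).symm (0 : Fin (k + 1)).succ = Sum.inl 1 := rfl

@[simp] theorem headEquiv_symm_succ (k : ℕ) (i : Fin k) : (headEquiv k).symm i.succ.succ = Sum.inr i := rfl

@[simp] theorem headEquiv_symm_one' (k : ℕ) : (headEquiv k).symm 1 = Sum.inl 1 := rfl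

theorem border_one_zero {n : ℕ} (a : K) (r c : Fin (n + 1) → K) (M : Matrix (Fin (n + 1)) (Fin (n + 1)) K) :
    border a r c M 1 0 = c 0 := rfl

theorem border_zero_one {n : ℕ} (a : K) (r c : Fin (n + 1) → K) (M : Matrix (Fin (n + 1)) (Fin (n + 1)) K) :
    border a r c M 0 1 = r 0 := rfl

theorem border_one_one {n : ℕ} (a : K) (r c : Fin (n + 1) → K) (M : Matrix (Fin (n + 1)) (Fin (n + 1)) K) :
    border a r c M 1 1 = M 0 0 := rfl

theorem border_one_succ {n : ℕ} (a : K) (r c : Fin (n + 1) → K) (M : Matrix (Fin (n + 1)) (Fin (n + 1)) K)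
    (j : Fin (n + 1)) : border a r c M 1 j.succ = M 0 j := rfl

theorem border_succ_one {n : ℕ} (a : K) (r c : Fin (n + 1) → K) (M : Matrix (Fin (n + 1)) (Fin (n + 1)) K)
    (i : Fin (n + 1)) : border a r c M i.succ 1 = M i 0 := rfl

theorem det_border_sub {n : ℕ} {b : K} (hb : b ≠ 0) (r c : Fin n → K) (M : Matrix (Fin n) (Fin n) K) :
    (border b r c M).det = b * (M - b⁻¹ • vecMulVec c r).det := by
  have hfac : border b r c M = border 1 0 (b⁻¹ • c) 1 * border b r 0 (M - b⁻¹ • vecMulVec c r) := by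
    rw [border_mul]
    congr 1
    · simp
    · simp
    · simp [smul_smul, hb]
    · rw [Matrix.one_mul, Matrix.smul_vecMulVec, add_sub_cancel]
  rw [hfac, det_mul, det_border_zero_row, det_border_zero_col]
  simp

/-- A two by two corner of determinant one in a nonscalar matrix of determinant one. -/
theorem exists_block {k : ℕ} (M : Matrix (Fin (k + 3)) (Fin (k + 3)) K) (hns : ∀ μ : K, M ≠ μ • 1) (hdet : M.det = 1)
    {b : K} (hb : b ≠ 0) (hb2 : b * b ≠ 1) :
    ∃ (X : Matrix (Fin 2) (Fin 2) K) (v : Matrix (Fin 2) (Fin (k + 1)) K) (c : Matrix (Fin (k + 1)) (Fin 2) K)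
      (N : Matrix (Fin (k + 1)) (Fin (k + 1)) K), X.det = 1 ∧ (∀ μ : K, X ≠ μ • 1) ∧ N.det = 1 ∧
      (k = 0 ∨ ∀ μ : K, N ≠ μ • 1) ∧ SimTo M (fromBlocks X (X * v) c (c * v + N)) := by
  obtain ⟨P, hP, r, c, M₁, hMP, hN₁⟩ := exists_good_border hns (by rw [hdet]; exact one_ne_zero) b hb
  set N₁ := M₁ - b⁻¹ • vecMulVec c r with hN₁def
  replace hN₁ := hN₁.resolve_left (Nat.succ_ne_zero k)
  have hd₁ : b * N₁.det = 1 := by
    have h := congrArg Matrix.det hMP
    rw [det_mul, det_mul, hdet, det_border_sub hb, one_mul] at h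
    exact (mul_left_cancel₀ hP.ne_zero (by rw [mul_one]; exact h)).symm
  obtain ⟨R, hR, r₂, c₂, M₂, hNR, hN₂⟩ := exists_good_border hN₁ (right_ne_zero_of_mul_eq_one hd₁) b⁻¹ (inv_ne_zero hb)
  set N := M₂ - (b⁻¹)⁻¹ • vecMulVec c₂ r₂ with hNdef
  have hd₂ : N.det = 1 := by
    have h := congrArg Matrix.det hNR
    rw [det_mul, det_mul, det_border_sub (inv_ne_zero hb)] at h
    have h1 : N₁.det = b⁻¹ := eq_inv_of_mul_eq_one_right hd₁
    rw [h1, mul_comm R.det] at h
    have h2 := mul_right_cancel₀ hR.ne_zero h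
    exact (mul_left_cancel₀ (inv_ne_zero hb) (by rw [mul_one]; exact h2)).symm
  set r' := r ᵥ* R with hr'
  set c' := R⁻¹ *ᵥ c with hc'
  have hG : M * (P * border 1 0 0 R) =
      (P * border 1 0 0 R) * border b r' c' (border b⁻¹ r₂ c₂ M₂ + b⁻¹ • vecMulVec c' r') := by
    have hc2 : R *ᵥ c' = c := by rw [hc', Matrix.mulVec_mulVec, Matrix.mul_nonsing_inv _ hR, Matrix.one_mulVec]
    rw [← Matrix.mul_assoc, hMP, Matrix.mul_assoc, Matrix.mul_assoc]
    congr 1
    rw [border_mul, border_mul]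
    congr 1
    · simp
    · simp [hr']
    · simp [hc2]
    · rw [Matrix.mul_add, ← hNR, Matrix.mul_smul, Matrix.mul_vecMulVec, hc2, hr', ← Matrix.vecMulVec_mul, hN₁def]
      simp [Matrix.sub_mul, Matrix.vecMulVec_mul]
  let Xm : Matrix (Fin 2) (Fin 2) K := !![b, r' 0; c' 0, b⁻¹ + b⁻¹ * (c' 0 * r' 0)]
  let v : Matrix (Fin 2) (Fin (k + 1)) K :=
    Matrix.of ![fun j => b⁻¹ * (r' j.succ - r' 0 * (b * r₂ j)), fun j => b * r₂ j]
  let C' : Matrix (Fin (k + 1)) (Fin 2) K := Matrix.of fun i => ![c' i.succ, c₂ i + b⁻¹ * (c' i.succ * r' 0)]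
  refine ⟨Xm, v, C', N, ?_, fun μ hμ => ?_, hd₂, hN₂, headEquiv (k + 1), ?_⟩
  · simp [Xm, det_fin_two]; field_simp; ring
  · have h00 := congrFun (congrFun hμ 0) 0
    have h11 := congrFun (congrFun hμ 1) 1
    have h01 := congrFun (congrFun hμ 0) 1
    simp [Xm] at h00 h11 h01
    rw [h01, mul_zero, mul_zero, add_zero, ← h00] at h11
    exact hb2 (by nth_rw 2 [← h11]; exact mul_inv_cancel₀ hb)
  · refine Sim.symm ⟨P * border 1 0 0 R, ?_, ?_⟩
    · rw [det_mul, det_border_zero_col, one_mul]; exact hP.mul hR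
    rw [hG]
    congr 1
    ext i j
    cases i using Fin.cases with
    | zero =>
      cases j using Fin.cases with
      | zero => simp [border_one_zero, border_zero_one, border_one_one, border_one_succ, border_succ_one, Matrix.vecMul, dotProduct, Xm]
      | succ j =>
        cases j using Fin.cases with
        | zero => simp [border_one_zero, border_zero_one, border_one_one, border_one_succ, border_succ_one, Matrix.vecMul, dotProduct, Xm]
        | succ j => simp [border_one_zero, border_zero_one, border_one_one, border_one_succ, border_succ_one, Matrix.vecMul, dotProduct, Xm, v, Matrix.mul_apply, Fin.sum_univ_two]; field_simp; ring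
    | succ i =>
      cases i using Fin.cases with
      | zero =>
        cases j using Fin.cases with
        | zero => simp [border_one_zero, border_zero_one, border_one_one, border_one_succ, border_succ_one, Matrix.vecMul, dotProduct, Xm]
        | succ j =>
          cases j using Fin.cases with
          | zero => simp [border_one_zero, border_zero_one, border_one_one, border_one_succ, border_succ_one, Matrix.vecMul, dotProduct, Xm, vecMulVec_apply]
          | succ j => simp [border_one_zero, border_zero_one, border_one_one, border_one_succ, border_succ_one, Matrix.vecMul, dotProduct, Xm, v, Matrix.mul_apply, Fin.sum_univ_two, vecMulVec_apply]; field_simp; ring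
      | succ i =>
        cases j using Fin.cases with
        | zero => simp [border_one_zero, border_zero_one, border_one_one, border_one_succ, border_succ_one, Matrix.vecMul, dotProduct, C']
        | succ j =>
          cases j using Fin.cases with
          | zero => simp [border_one_zero, border_zero_one, border_one_one, border_one_succ, border_succ_one, Matrix.vecMul, dotProduct, C', vecMulVec_apply]
          | succ j =>
            simp [border_one_zero, border_zero_one, border_one_one, border_one_succ, border_succ_one, Matrix.vecMul, dotProduct, C', v, N, Matrix.mul_apply, Fin.sum_univ_two, vecMulVec_apply]; field_simp; ring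

/-- Determinant one, not a scalar: `A Q A⁻¹ Q⁻¹` for a scaled Jordan block `A`, with some invertible `Q`. -/
theorem exists_jordan_fac [Fintype K] (hK : 4 ≤ Fintype.card K) (l : Kˣ) {k : ℕ}
    (N : Matrix (Fin (k + 1)) (Fin (k + 1)) K) (hdet : N.det = 1) (hns : k = 0 ∨ ∀ μ : K, N ≠ μ • 1) :
    ∃ A Q : Matrix (Fin (k + 1)) (Fin (k + 1)) K, A.det = (l : K) ^ (k + 1) ∧
      aeval A ((X - C (l : K)) ^ (k + 1)) = 0 ∧ IsUnit Q.det ∧ N * Q * A = A * Q := by
  let g : GL (Fin (k + 1)) K := GeneralLinearGroup.mk'' N (by rw [hdet]; exact isUnit_one)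
  obtain ⟨x, y, hx, hy, e⟩ := pair_scal_inv hK l g hns hdet
  set A := scal l * jordanGL K (k + 1) with hA
  have hinv : IsConj (scal l⁻¹ * jordanGL K (k + 1)) A⁻¹ := by
    rw [hA, _root_.mul_inv_rev, show (scal l : GL (Fin (k + 1)) K)⁻¹ = scal l⁻¹ from (map_inv _ _).symm,
      ← (scal_comm l⁻¹ _).eq]
    exact isConj_scal_mul _ (isConj_jordan_inv (Nat.succ_pos _))
  obtain ⟨s, rfl⟩ := isConj_iff.1 hx
  obtain ⟨t, ht⟩ := isConj_iff.1 (hinv.symm.trans hy)
  subst ht
  have hAv : (A : Matrix (Fin (k + 1)) (Fin (k + 1)) K) = (l : K) • jordan K (k + 1) := by simp [hA]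
  refine ⟨((s * A * s⁻¹ : GL (Fin (k + 1)) K) : Matrix (Fin (k + 1)) (Fin (k + 1)) K),
    ((t * s⁻¹ : GL (Fin (k + 1)) K) : Matrix (Fin (k + 1)) (Fin (k + 1)) K), ?_, ?_,
    (isUnit_iff_isUnit_det _).1 (t * s⁻¹).isUnit, ?_⟩
  · rw [Units.val_mul, Units.val_mul, Matrix.coe_units_inv, det_conj ((isUnit_iff_isUnit_det _).2
      ((isUnit_iff_isUnit_det _).1 s.isUnit)), hAv, det_smul, det_jordan, Fintype.card_fin, mul_one]
  · have h1 := aeval_conj (P := (s : Matrix (Fin (k + 1)) (Fin (k + 1)) K))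
      (A := (A : Matrix (Fin (k + 1)) (Fin (k + 1)) K))
      (B := ((s * A * s⁻¹ : GL (Fin (k + 1)) K) : Matrix (Fin (k + 1)) (Fin (k + 1)) K))
      (by rw [← Units.val_mul, ← Units.val_mul]; congr 1; group) ((Polynomial.X - C (l : K)) ^ (k + 1))
    rw [hAv, aeval_scalJordan, Matrix.mul_zero] at h1
    exact (Units.mul_left_eq_zero s).1 h1.symm
  · show (g : Matrix (Fin (k + 1)) (Fin (k + 1)) K) * _ * _ = _
    rw [e, ← Units.val_mul, ← Units.val_mul, ← Units.val_mul]
    congr 1
    group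

end H27.SUFac
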