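import Cfsg.Agent.H27.SUFac.Top
import Cfsg.Agent.H31.Commutator.Tower

/-!
Over nine elements: an irreducible quadratic corner next to a Jordan block.
-/

set_option autoImplicit false
set_option linter.unusedSectionVars false
set_option linter.unusedSimpArgs false

namespace H27.SUFac

open Matrix Polynomial H21.ClassSquare H41 H41.Reg
open H31.Com (coprime_rev_symm coprime_of_degree_lt aeval_conj)
open H31.Com.Uni
open H89.CN (Sim)

variable {K : Type*} [Field K]

/-- Coordinates in the basis `1, g`. -/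
abbrev Nn := ZMod 3 × ZMod 3

/-- The product in the basis `1, g` with `g² = g + 1`. -/
def pm (p q : Nn) : Nn := (p.1 * q.1 + p.2 * q.2, p.1 * q.2 + p.2 * q.1 + p.2 * q.2)

/-- The cube. -/
def pf (p : Nn) : Nn := pm p (pm p p)

/-- The properties asked of `(d, t)`, in coordinates. -/
def GoodP (d t : Nn) : Prop :=
  (∀ x : Nn, pm x x - pm t x + d ≠ 0) ∧
  ¬ (pm (pf d) d = (1, 0) ∧ pm (pf d) t = pf t) ∧
  (∀ T : Nn, T ≠ (2, 0) → ∃ x y : Nn, y ≠ 0 ∧ pm x x + pm t (pm x (y - (1, 0))) + pm d (pm y y + (1, 0)) = pm T (pm d y) ∧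
    (x ≠ 0 ∨ pm y y ≠ (1, 0))) ∧
  (∀ z : Nn, z ≠ 0 → ∃ a b : Nn, pm a a + pm t (pm a b) + pm d (pm b b) = z)

set_option synthInstance.maxSize 1024 in
theorem goodP_one : GoodP (0, 1) (1, 0) := by unfold GoodP; decide +kernel

set_option synthInstance.maxSize 1024 in
theorem goodP_two : GoodP (1, 1) (1, 0) := by unfold GoodP; decide +kernel

/-- The properties asked of `(d, t)`. -/
structure Good (σ : K →+* K) (d t : K) : Prop where
  d_ne : d ≠ 0
  noroot : ∀ x, x * x - t * x + d ≠ 0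
  free : ¬ (σ d * d = 1 ∧ σ d * t = σ t)
  trace : ∀ T, T ≠ 2 → ∃ x y, y ≠ 0 ∧ x * x + t * (x * (y - 1)) + d * (y * y + 1) = T * (d * y) ∧ (x ≠ 0 ∨ y * y ≠ 1)
  norm : ∀ z, z ≠ 0 → ∃ a b, a * a + t * (a * b) + d * (b * b) = z

theorem norm_key : ∀ q : Nn, q ≠ 0 → (pm q (q.1 + q.2, -q.2)).1 ≠ 0 ∧ (pm q (q.1 + q.2, -q.2)).2 = 0 := by decide +kernel

theorem three_eq_zero [Fintype K] (h9 : Fintype.card K = 9) : (3 : K) = 0 := by
  have h : ((9 : ℕ) : K) = 0 := h9 ▸ Nat.cast_card_eq_zero K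
  have h' : (3 : K) * 3 = 0 := by rw [← h]; norm_num
  exact mul_self_eq_zero.1 h'

theorem exists_gen_nine [Fintype K] (h9 : Fintype.card K = 9) :
    ∃ g : Kˣ, (g : K) * g = g + 1 ∧ orderOf g = 8 := by
  classical
  obtain ⟨u, hu⟩ := IsCyclic.exists_generator (α := Kˣ)
  have hN : orderOf u = 8 := by
    rw [orderOf_eq_card_of_forall_mem_zpowers hu, Nat.card_units, Nat.card_eq_fintype_card, h9]
  have h8 : ((u : K) ^ 4) * (u : K) ^ 4 = 1 := by
    rw [← pow_add, ← Units.val_pow_eq_pow_val, show 4 + 4 = orderOf u by rw [hN], pow_orderOf_eq_one, Units.val_one]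
  have h4 : (u : K) ^ 4 ≠ 1 := fun e => by
    rw [← Units.val_pow_eq_pow_val, Units.val_eq_one] at e
    exact pow_ne_one_of_lt_orderOf (by norm_num) (by omega) e
  have h41 : (u : K) ^ 4 = -1 := (mul_self_eq_one_iff.1 h8).resolve_left h4
  have h3 := three_eq_zero h9
  have hf : ((u : K) * u - u - 1) * ((u : K) * u + u - 1) = 0 := by
    linear_combination h41 - (u : K) * u * h3
  rcases mul_eq_zero.1 hf with h | h
  · exact ⟨u, by linear_combination h, hN⟩
  · have hodd : ((-1 : Kˣ)) = u ^ 4 := Units.ext (by push_cast; exact h41.symm)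
    have hne : -u = u ^ 5 := by rw [← neg_one_mul, hodd, ← pow_succ]
    refine ⟨-u, by push_cast; linear_combination h, ?_⟩
    rw [hne, Nat.Coprime.orderOf_pow (by rw [hN]; norm_num), hN]

theorem good_of_goodP [Fintype K] {σ : K →+* K} (h9 : Fintype.card K = 9) (hσ : ∀ x, σ x = x ^ 3) {g : K}
    (hg : g * g = g + 1) :
    ∃ emb : Nn → K, emb (0, 1) = g ∧ emb (1, 1) = g * g ∧ ∀ d t, GoodP d t → d ≠ 0 → Good σ (emb d) (emb t) := by
  classical
  haveI : Fact (Nat.Prime 3) := ⟨Nat.prime_three⟩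
  haveI : CharP K 3 := (CharP.charP_iff_prime_eq_zero Nat.prime_three).2 (by exact_mod_cast three_eq_zero h9)
  let φ : ZMod 3 →+* K := ZMod.castHom (dvd_refl 3) K
  let emb : Nn → K := fun p => φ p.1 + φ p.2 * g
  have hadd : ∀ p q, emb (p + q) = emb p + emb q := fun p q => by simp [emb]; ring
  have hsub : ∀ p q, emb (p - q) = emb p - emb q := fun p q => by simp [emb]; ring
  have hmul : ∀ p q, emb (pm p q) = emb p * emb q := fun p q => by
    simp only [emb, pm, map_add, map_mul]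
    linear_combination -(φ p.2 * φ q.2) * hg
  have hone : emb (1, 0) = 1 := by simp [emb]
  have hzero : emb 0 = 0 := by simp [emb]
  have hne : ∀ p, emb p = 0 → p = 0 := by
    intro p hp
    by_contra h
    obtain ⟨h1, h2⟩ := norm_key p h
    have h3 := hmul p (p.1 + p.2, -p.2)
    rw [hp, zero_mul] at h3
    simp only [emb, h2, map_zero, zero_mul, add_zero, map_eq_zero] at h3
    exact h1 h3
  have hinj : Function.Injective emb := fun p q h => sub_eq_zero.1 (hne _ (by rw [hsub, h, sub_self]))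
  have hsurj : Function.Surjective emb :=
    ((Fintype.bijective_iff_injective_and_card emb).2 ⟨hinj, by simp [h9]⟩).2
  have hσ' : ∀ p, σ (emb p) = emb (pf p) := fun p => by rw [hσ, pf, hmul, hmul]; ring
  refine ⟨emb, by simp [emb], by rw [hg]; simp [emb, add_comm], fun d t ⟨h1, h2, h3, h4⟩ hd => ?_⟩
  refine ⟨fun e => hd (hne _ e), fun x => ?_, fun ⟨e1, e2⟩ => h2 ⟨?_, ?_⟩, fun T hT => ?_, fun z hz => ?_⟩
  · obtain ⟨x, rfl⟩ := hsurj x
    rw [← hmul, ← hmul, ← hsub, ← hadd]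
    exact fun e => h1 x (hne _ e)
  · exact hinj (by rw [hmul, hone, ← hσ', e1])
  · exact hinj (by rw [hmul, ← hσ', ← hσ', e2])
  · obtain ⟨T, rfl⟩ := hsurj T
    obtain ⟨x, y, hy, e, hxy⟩ := h3 T (fun e => hT (by rw [e]; simp [emb, map_ofNat]))
    refine ⟨emb x, emb y, fun e' => hy (hne _ e'), ?_, hxy.imp (fun h e' => h (hne _ e')) fun h e' => h ?_⟩
    · simpa [hadd, hsub, hmul, hone] using congrArg emb e
    · exact hinj (by rw [hmul, hone, e'])
  · obtain ⟨z, rfl⟩ := hsurj z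
    obtain ⟨a, b, e⟩ := h4 z (fun e => hz (by rw [e, hzero]))
    exact ⟨emb a, emb b, by simpa [hadd, hmul] using congrArg emb e⟩

variable {σ : K →+* K} {d t : K}

/-- The quadratic. -/
noncomputable def quad (d t : K) : K[X] := Polynomial.X ^ 2 - C t * Polynomial.X + C d

theorem quad_monic (d t : K) : (quad d t).Monic ∧ (quad d t).natDegree = 2 := by
  have h : quad d t = C 1 * Polynomial.X ^ 2 + C (-t) * Polynomial.X + C d := by rw [quad, map_one, map_neg]; ring
  exact ⟨by rw [h, Monic, leadingCoeff_quadratic one_ne_zero], by rw [h, natDegree_quadratic one_ne_zero]⟩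

theorem quad_irreducible (h : Good σ d t) : Irreducible (quad d t) := by
  obtain ⟨hm, hd⟩ := quad_monic d t
  refine Polynomial.irreducible_of_degree_le_three_of_not_isRoot (by rw [hd]; simp) fun x hx => h.noroot x ?_
  rw [← hx.eq_zero]
  simp [quad]; ring

theorem aeval_comp (d t : K) : aeval !![0, -d; 1, t] (quad d t) = 0 := by
  simp only [quad, map_add, map_sub, map_pow, map_mul, aeval_X, aeval_C, sq]
  ext i j
  fin_cases i <;> fin_cases j <;>
    simp [Algebra.algebraMap_eq_smul_one, Matrix.mul_apply, Fin.sum_univ_two] <;> ring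

/-- A nonscalar two by two matrix of determinant one is `A P A⁻¹ P⁻¹`, with `det P` arbitrary. -/
theorem quad_fac (h : Good σ d t) (M : Matrix (Fin 2) (Fin 2) K) (hdet : M.det = 1) (hns : ∀ μ : K, M ≠ μ • 1)
    (hT : M.trace ≠ 2) {δ : K} (hδ : δ ≠ 0) :
    ∃ A P : Matrix (Fin 2) (Fin 2) K, A.det = d ∧ aeval A (quad d t) = 0 ∧ P.det = δ ∧ M * P * A = A * P := by
  obtain ⟨x, y, hy, he, hxy⟩ := h.trace M.trace hT
  have hd := h.d_ne
  obtain ⟨a, b, hab⟩ := h.norm (δ / y) (div_ne_zero hδ hy)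
  set B : Matrix (Fin 2) (Fin 2) K := !![0, -d; 1, t] with hB
  set M₀ : Matrix (Fin 2) (Fin 2) K := !![y, -x; (t - x - t * y) / d, (d - x * t + x * x + t * x * y) / (d * y)] with hM₀
  set Q : Matrix (Fin 2) (Fin 2) K := !![1, x; 0, y] with hQ
  set Z : Matrix (Fin 2) (Fin 2) K := !![a, -(b * d); b, a + b * t] with hZ
  have hQB : M₀ * Q * B = B * Q := by
    ext i j
    fin_cases i <;> fin_cases j <;> simp [hM₀, hQ, hB, Matrix.mul_apply, Fin.sum_univ_two] <;> field_simp <;> ring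
  have hdQ : Q.det = y := by simp [hQ, det_fin_two]
  have hdB : B.det = d := by simp [hB, det_fin_two]
  have hd0 : M₀.det = 1 := by
    have h1 := congrArg Matrix.det hQB
    rw [det_mul, det_mul, det_mul, hdQ, hdB, mul_assoc, mul_comm d y] at h1
    exact mul_right_cancel₀ (mul_ne_zero hy hd) (by rw [one_mul]; exact h1)
  have htr : M₀.trace = M.trace := by
    rw [Matrix.trace_fin_two, show M₀ 0 0 = y by simp [hM₀],
      show M₀ 1 1 = (d - x * t + x * x + t * x * y) / (d * y) by simp [hM₀]]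
    field_simp
    linear_combination he
  have hns0 : ∀ μ : K, M₀ ≠ μ • 1 := fun μ e => by
    have e00 := congrFun (congrFun e 0) 0
    have e01 := congrFun (congrFun e 0) 1
    have e11 := congrFun (congrFun e 1) 1
    simp [hM₀] at e00 e01 e11
    refine hxy.elim (fun h => h e01) fun h => h ?_
    subst e01
    rw [← e00] at e11
    field_simp at e11
    refine mul_left_cancel₀ hd ?_
    linear_combination -e11
  let g₀ : GL (Fin 2) K := GeneralLinearGroup.mk'' M₀ (by rw [hd0]; exact isUnit_one)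
  let g₁ : GL (Fin 2) K := GeneralLinearGroup.mk'' M (by rw [hdet]; exact isUnit_one)
  obtain ⟨s, hs⟩ := isConj_iff.1 (isConj_two (A := g₀) (B := g₁) hns0 hns (hd0.trans hdet.symm) htr)
  set S : Matrix (Fin 2) (Fin 2) K := (s : Matrix (Fin 2) (Fin 2) K) with hS
  set Si : Matrix (Fin 2) (Fin 2) K := ((s⁻¹ : GL (Fin 2) K) : Matrix (Fin 2) (Fin 2) K) with hSi
  have hM : M = S * M₀ * Si := (congrArg Units.val hs).symm
  have hi : Si * S = 1 := s.inv_mul
  have hSd : S.det * Si.det = 1 := by rw [← det_mul, show S * Si = 1 from s.mul_inv, det_one]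
  refine ⟨S * B * Si, S * (Q * Z) * Si, ?_, ?_, ?_, ?_⟩
  · rw [det_mul_right_comm, show S * Si = 1 from s.mul_inv, Matrix.one_mul, hdB]
  · have h1 := aeval_conj (P := S) (A := B) (B := S * B * Si) (by rw [Matrix.mul_assoc _ Si, hi, Matrix.mul_one])
      (quad d t)
    rw [aeval_comp, Matrix.mul_zero] at h1
    exact (Units.mul_left_eq_zero s).1 h1.symm
  · rw [det_mul_right_comm, show S * Si = 1 from s.mul_inv, Matrix.one_mul, det_mul, hdQ,
      show Z.det = δ / y by rw [← hab]; simp [hZ, det_fin_two]; ring, mul_div_cancel₀ _ hy]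
  · have hZB : Z * B = B * Z := by
      ext i j
      fin_cases i <;> fin_cases j <;> simp [hZ, hB, Matrix.mul_apply, Fin.sum_univ_two] <;> ring
    calc M * (S * (Q * Z) * Si) * (S * B * Si) = S * M₀ * (Si * S) * (Q * Z) * (Si * S) * B * Si := by
          simp only [hM, Matrix.mul_assoc]
      _ = S * (M₀ * Q * (Z * B)) * Si := by rw [hi]; simp only [Matrix.mul_one, Matrix.mul_assoc]
      _ = S * (B * Q * Z) * Si := by rw [hZB, ← Matrix.mul_assoc _ B Z, hQB]
      _ = S * B * (Si * S) * (Q * Z) * Si := by rw [hi]; simp only [Matrix.mul_one, Matrix.mul_assoc]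
      _ = _ := by simp only [Matrix.mul_assoc]

theorem natDegree_map_quad (σ : K →+* K) (d t : K) : (quad d t).map σ = quad (σ d) (σ t) := by
  simp [quad, Polynomial.map_pow]

theorem cop_quad (h : Good σ d t) [Invol σ] : Cop σ (quad d t) (quad d t) := by
  have hir := quad_irreducible h
  rw [Cop, natDegree_map_quad]
  refine hir.coprime_iff_not_dvd.2 fun hd => h.free ?_
  have hr : (quad (σ d) (σ t)).reverse = C (σ d) * Polynomial.X ^ 2 + C (-σ t) * Polynomial.X + C 1 := by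
    have hn := (quad_monic (σ d) (σ t)).2
    ext k
    rw [coeff_reverse, hn]
    rcases k with _ | _ | _ | k
    · simp [quad, revAt_le (show 0 ≤ 2 by omega)]
    · simp [quad, revAt_le (show 1 ≤ 2 by omega), coeff_one]
    · simp [quad, revAt_le (show 2 ≤ 2 by omega), coeff_one]
    · rw [show revAt 2 (k + 1 + 1 + 1) = k + 1 + 1 + 1 by rw [← revAtFun_eq, revAtFun, if_neg (by omega)]]
      simp [quad, coeff_C, coeff_one]
  obtain ⟨c, hc⟩ := hd
  obtain ⟨hm, hn⟩ := quad_monic d t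
  have hσd : σ d ≠ 0 := (map_ne_zero σ).2 h.d_ne
  have hdeg : (quad (σ d) (σ t)).reverse.natDegree = 2 := by rw [hr, natDegree_quadratic hσd]
  have hc0 : c ≠ 0 := fun e => by simp [hc, e] at hdeg
  have hcd : c.natDegree = 0 := by
    rw [hc, natDegree_mul hm.ne_zero hc0, hn] at hdeg
    omega
  obtain ⟨k, rfl⟩ := natDegree_eq_zero.1 hcd
  rw [hr] at hc
  have e2 := congrArg (fun p : K[X] => p.coeff 2) hc
  have e1 := congrArg (fun p : K[X] => p.coeff 1) hc
  have e0 := congrArg (fun p : K[X] => p.coeff 0) hc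
  simp [quad, coeff_one] at e2 e1 e0
  exact ⟨by linear_combination d * e2 - e0, by linear_combination t * e2 - e1⟩

/-- The quadratic is prime to the conjugate reverse of a linear factor, both ways. -/
theorem cop_quad_lin (h : Good σ d t) [Invol σ] (r : K) (hr : r ≠ 0) :
    Cop σ (quad d t) (Polynomial.X - C r) ∧ Cop σ (Polynomial.X - C r) (quad d t) := by
  have hq : ∀ e u : K, Irreducible (quad e u) → ∀ s : K, s ≠ 0 → IsCoprime (quad e u) (Polynomial.X - C s).reverse := by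
    intro e u hir s hs
    refine coprime_of_degree_lt hir ?_ ?_
    · intro e0
      have := reverse_eq_zero.1 e0
      exact X_sub_C_ne_zero s this
    · rw [(quad_monic e u).2]
      exact lt_of_le_of_lt (reverse_natDegree_le _) (by rw [natDegree_X_sub_C]; norm_num)
  have hσr : σ r ≠ 0 := (map_ne_zero σ).2 hr
  refine ⟨by rw [Cop, Polynomial.map_sub, map_X, map_C]; exact hq d t (quad_irreducible h) _ hσr, ?_⟩
  rw [Cop, natDegree_map_quad]
  have hg : Good σ (σ d) (σ t) → Irreducible (quad (σ d) (σ t)) := quad_irreducible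
  have hir : Irreducible (quad (σ d) (σ t)) := by
    obtain ⟨hm, hn⟩ := quad_monic (σ d) (σ t)
    refine Polynomial.irreducible_of_degree_le_three_of_not_isRoot (by rw [hn]; simp) fun x hx => h.noroot (σ x) ?_
    have e : x * x - σ t * x + σ d = 0 := by rw [← hx.eq_zero]; simp [quad]; ring
    simpa [map_sub, map_mul, Invol.invol] using congrArg σ e
  refine coprime_rev_symm ?_ ?_ (hq _ _ hir r hr)
  · simp [quad, (map_ne_zero σ).2 h.d_ne, h.d_ne]
  · simp [hr]

/-- For the scalar corner `1`. -/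
theorem quad_fac_one (h : Good σ d t) {δ : K} (hδ : δ ≠ 0) :
    ∃ A P : Matrix (Fin 2) (Fin 2) K, A.det = d ∧ aeval A (quad d t) = 0 ∧ P.det = δ ∧ 1 * P * A = A * P := by
  obtain ⟨a, b, hab⟩ := h.norm δ hδ
  refine ⟨!![0, -d; 1, t], !![a, -(b * d); b, a + b * t], by simp [det_fin_two], aeval_comp d t,
    by rw [← hab]; simp [det_fin_two]; ring, ?_⟩
  rw [Matrix.one_mul]
  ext i j
  fin_cases i <;> fin_cases j <;> simp [Matrix.mul_apply, Fin.sum_univ_two] <;> ring

/-- A quadratic corner next to a Jordan block, in odd size. -/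
theorem cfac_quad [Fintype K] [Invol σ] (h9 : Fintype.card K = 9) (h : Good σ d t) {l : Kˣ} {k e : ℕ}
    (hk : Even k) (hll : (l : K) * σ l ≠ 1) {b : K} (hb : b ≠ 0) (hb2 : b * b ≠ 1)
    (h0 : e = 0 → σ (d * (l : K) ^ (k + 1)) = d * (l : K) ^ (k + 1)) : SLFacU σ (k + 3) e := fun M hdet hns => by
  classical
  have h2 : (2 : K) ≠ 0 := fun e2 => one_ne_zero (α := K) (by linear_combination three_eq_zero h9 - e2)
  obtain ⟨U, v, c, N, hU, hN, hUc, hs⟩ := exists_top M hns hdet h2 hb hb2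
  obtain ⟨A₂, Q, hA₂, hA₂0, hQ, hNQ⟩ : ∃ A Q : Matrix (Fin (k + 1)) (Fin (k + 1)) K, A.det = (l : K) ^ (k + 1) ∧
      aeval A ((Polynomial.X - C (l : K)) ^ (k + 1)) = 0 ∧ IsUnit Q.det ∧ N * Q * A = A * Q := by
    by_cases hNs : ∀ μ : K, N ≠ μ • 1
    · exact exists_jordan_fac (by omega) l N hN (Or.inr hNs)
    push Not at hNs
    obtain ⟨μ, rfl⟩ := hNs
    have hμ : μ = 1 := by
      rw [det_smul, det_one, mul_one, Fintype.card_fin] at hN
      obtain ⟨j, rfl⟩ := hk
      have hμ0 : μ ≠ 0 := fun e => by simp [e] at hN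
      have h8 : μ ^ 8 = 1 := by simpa [h9] using FiniteField.pow_card_sub_one_eq_one μ hμ0
      have hg : μ ^ Nat.gcd (j + j + 1) 8 = 1 := pow_gcd_eq_one.2 ⟨hN, h8⟩
      have hco : Nat.gcd (j + j + 1) (2 ^ 3) = 1 :=
        Nat.Coprime.pow_right 3 (by rw [Nat.coprime_two_right]; exact ⟨j, by ring⟩)
      rwa [show (8 : ℕ) = 2 ^ 3 from rfl, hco, pow_one] at hg
    subst hμ
    refine ⟨(l : K) • jordan K (k + 1), 1, ?_, H31.Com.aeval_scalJordan _, by simp, by simp⟩
    rw [det_smul, det_jordan, Fintype.card_fin, mul_one]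
  obtain ⟨A₁, P, hA₁, hA₁0, hP, hUP⟩ : ∃ A P : Matrix (Fin 2) (Fin 2) K, A.det = d ∧ aeval A (quad d t) = 0 ∧
      P.det = Q.det⁻¹ ∧ U * P * A = A * P := by
    rcases hUc with rfl | ⟨hUns, hUt⟩
    · exact quad_fac_one h (inv_ne_zero hQ.ne_zero)
    · exact quad_fac h U hU hUns hUt (inv_ne_zero hQ.ne_zero)
  have hcop : IsCoprime (quad d t) ((Polynomial.X - C (l : K)) ^ (k + 1)) :=
    (coprime_of_degree_lt (quad_irreducible h) (X_sub_C_ne_zero _)
      (by rw [natDegree_X_sub_C, (quad_monic d t).2]; norm_num)).pow_right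
  have hF := (fac_block hcop hA₁0 hA₂0 (by rw [hP]; exact IsUnit.mk0 _ (inv_ne_zero hQ.ne_zero))
    (by rw [hP, inv_mul_cancel₀ hQ.ne_zero]) hUP hNQ v c).of_simTo hs
  obtain ⟨A, P', hA, hP', hA0, hMA⟩ := hF
  rw [hA₁, hA₂] at hA
  have hA0' : A.det ≠ 0 := by rw [hA]; exact mul_ne_zero h.d_ne (pow_ne_zero _ l.ne_zero)
  obtain ⟨q1, q2⟩ := cop_quad_lin h (l : K) l.ne_zero
  refine ⟨_, A, P', hA0', hP', hA0, ?_, ⟨fun he => by rw [hA]; exact h0 he, fun _ => ?_⟩, Or.inl hMA⟩
  · exact Cop.mul_left ((cop_quad h).mul_right (q1.pow_right _))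
      (((q2.mul_right ((cop_lin hll).pow_right _)).pow_left _))
  · simp only [eval_mul, eval_pow, eval_sub, eval_X, eval_C]
    refine mul_ne_zero ?_ (pow_ne_zero _ (quot_ne hA0' hll))
    intro e0
    exact h.noroot (σ A.det / A.det) (by rw [← e0]; simp [quad]; ring)

/-- A nonscalar two by two matrix of determinant one and trace two is `A P A⁻¹ P⁻¹` with `A` a scaled Jordan block,
with `det P` arbitrary. -/
theorem jordan_two_fac {β : K} (hβ : β ≠ 0) (M : Matrix (Fin 2) (Fin 2) K) (hdet : M.det = 1)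
    (hns : ∀ μ : K, M ≠ μ • 1) (ht : M.trace = 2) {δ : K} (hδ : δ ≠ 0)
    (hy : ∃ y s : K, y ≠ 1 ∧ y * (s * s) = δ) :
    ∃ A P : Matrix (Fin 2) (Fin 2) K, A.det = β * β ∧ aeval A ((Polynomial.X - C β) ^ 2) = 0 ∧ P.det = δ ∧
      M * P * A = A * P := by
  obtain ⟨y, s, hy1, hys⟩ := hy
  have hy0 : y ≠ 0 := fun e => hδ (by rw [← hys, e, zero_mul])
  have hs0 : s ≠ 0 := fun e => hδ (by rw [← hys, e]; ring)
  set B : Matrix (Fin 2) (Fin 2) K := !![β, β; 0, β] with hB
  set M₀ : Matrix (Fin 2) (Fin 2) K := !![1, (y - 1) / y; 0, 1] with hM₀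
  set Q : Matrix (Fin 2) (Fin 2) K := !![s, 0; 0, s * y] with hQ
  have hQB : M₀ * Q * B = B * Q := by
    ext i j
    fin_cases i <;> fin_cases j <;> simp [hM₀, hQ, hB, Matrix.mul_apply, Fin.sum_univ_two] <;> field_simp <;> ring
  have hns0 : ∀ μ : K, M₀ ≠ μ • 1 := fun μ e => by
    have e01 := congrFun (congrFun e 0) 1
    simp [hM₀, sub_eq_zero, hy1, hy0] at e01
  let g₀ : GL (Fin 2) K := GeneralLinearGroup.mk'' M₀ (by simp [hM₀, det_fin_two])
  let g₁ : GL (Fin 2) K := GeneralLinearGroup.mk'' M (by rw [hdet]; exact isUnit_one)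
  obtain ⟨w, hw⟩ := isConj_iff.1 (isConj_two (A := g₀) (B := g₁) hns0 hns
    ((by simp [hM₀, det_fin_two] : M₀.det = 1).trans hdet.symm)
    ((by simp [hM₀, Matrix.trace_fin_two, one_add_one_eq_two] : M₀.trace = 2).trans ht.symm))
  set S : Matrix (Fin 2) (Fin 2) K := (w : Matrix (Fin 2) (Fin 2) K) with hS
  set Si : Matrix (Fin 2) (Fin 2) K := ((w⁻¹ : GL (Fin 2) K) : Matrix (Fin 2) (Fin 2) K) with hSi
  have hM : M = S * M₀ * Si := (congrArg Units.val hw).symm
  have hi : Si * S = 1 := w.inv_mul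
  refine ⟨S * B * Si, S * Q * Si, ?_, ?_, ?_, ?_⟩
  · rw [det_mul_right_comm, show S * Si = 1 from w.mul_inv, Matrix.one_mul]; simp [hB, det_fin_two]
  · have h1 := aeval_conj (P := S) (A := B) (B := S * B * Si) (by rw [Matrix.mul_assoc _ Si, hi, Matrix.mul_one])
      ((Polynomial.X - C β) ^ 2)
    have hB0 : aeval B ((Polynomial.X - C β) ^ 2) = 0 := by
      simp only [map_pow, map_sub, aeval_X, aeval_C, sq]
      ext i j
      fin_cases i <;> fin_cases j <;> simp [hB, Algebra.algebraMap_eq_smul_one, Matrix.mul_apply, Fin.sum_univ_two]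
    rw [hB0, Matrix.mul_zero] at h1
    exact (Units.mul_left_eq_zero w).1 h1.symm
  · rw [det_mul_right_comm, show S * Si = 1 from w.mul_inv, Matrix.one_mul, ← hys]
    simp [hQ, det_fin_two]; ring
  · calc M * (S * Q * Si) * (S * B * Si) = S * M₀ * (Si * S) * Q * (Si * S) * B * Si := by
          simp only [hM, Matrix.mul_assoc]
      _ = S * (M₀ * Q * B) * Si := by rw [hi]; simp only [Matrix.mul_one, Matrix.mul_assoc]
      _ = S * B * (Si * S) * Q * Si := by rw [hQB, hi]; simp only [Matrix.mul_one, Matrix.mul_assoc]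
      _ = _ := by simp only [Matrix.mul_assoc]

/-- In size divisible by four: the quadratic corner, or a Jordan block of another value for transvection corners. -/
theorem cfac_four [Fintype K] [Invol σ] (h9 : Fintype.card K = 9) (h : Good σ d t) {l β : Kˣ} {k e : ℕ}
    (hll : (l : K) * σ l ≠ 1) (hββ : (β : K) * σ β ≠ 1) (hlβ : (l : K) * σ β ≠ 1) (hβl : (β : K) * σ l ≠ 1)
    (hne : (β : K) ≠ l) {b : K} (hb : b ≠ 0) (hb2 : b * b ≠ 1)
    (hy : ∀ δ : K, δ ≠ 0 → ∃ y s : K, y ≠ 1 ∧ y * (s * s) = δ)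
    (h0 : e = 0 → σ (d * (l : K) ^ (k + 1)) = d * (l : K) ^ (k + 1))
    (h0' : e = 0 → σ ((β : K) * β * (l : K) ^ (k + 1)) = (β : K) * β * (l : K) ^ (k + 1)) :
    SLFacU σ (k + 3) e := fun M hdet hns => by
  classical
  obtain ⟨U, v, c, N, hU, hUns, hN, hNns, hs⟩ := exists_block M hns hdet hb hb2
  obtain ⟨A₂, Q, hA₂, hA₂0, hQ, hNQ⟩ := exists_jordan_fac (by omega) l N hN hNns
  by_cases ht : U.trace = 2
  · obtain ⟨A₁, P, hA₁, hA₁0, hP, hUP⟩ :=
      jordan_two_fac β.ne_zero U hU hUns ht (inv_ne_zero hQ.ne_zero) (hy _ (inv_ne_zero hQ.ne_zero))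
    have hcop : IsCoprime ((Polynomial.X - C (β : K)) ^ 2) ((Polynomial.X - C (l : K)) ^ (k + 1)) :=
      (isCoprime_X_sub_C_of_isUnit_sub (IsUnit.mk0 _ (sub_ne_zero.2 hne))).pow
    have hF := (fac_block hcop hA₁0 hA₂0 (by rw [hP]; exact IsUnit.mk0 _ (inv_ne_zero hQ.ne_zero))
      (by rw [hP, inv_mul_cancel₀ hQ.ne_zero]) hUP hNQ v c).of_simTo hs
    obtain ⟨A, P', hA, hP', hA0, hMA⟩ := hF
    rw [hA₁, hA₂] at hA
    have hA0' : A.det ≠ 0 := by
      rw [hA]; exact mul_ne_zero (mul_ne_zero β.ne_zero β.ne_zero) (pow_ne_zero _ l.ne_zero)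
    refine ⟨_, A, P', hA0', hP', hA0, ?_, ⟨fun he => by rw [hA]; exact h0' he, fun _ => ?_⟩, Or.inl hMA⟩
    · exact Cop.mul_left ((((cop_lin hββ).pow_right _).mul_right ((cop_lin hβl).pow_right _)).pow_left _)
        ((((cop_lin hlβ).pow_right _).mul_right ((cop_lin hll).pow_right _)).pow_left _)
    · simp only [eval_mul, eval_pow, eval_sub, eval_X, eval_C]
      exact mul_ne_zero (pow_ne_zero _ (quot_ne hA0' hββ)) (pow_ne_zero _ (quot_ne hA0' hll))
  obtain ⟨A₁, P, hA₁, hA₁0, hP, hUP⟩ := quad_fac h U hU hUns ht (inv_ne_zero hQ.ne_zero)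
  have hcop : IsCoprime (quad d t) ((Polynomial.X - C (l : K)) ^ (k + 1)) :=
    (coprime_of_degree_lt (quad_irreducible h) (X_sub_C_ne_zero _)
      (by rw [natDegree_X_sub_C, (quad_monic d t).2]; norm_num)).pow_right
  have hF := (fac_block hcop hA₁0 hA₂0 (by rw [hP]; exact IsUnit.mk0 _ (inv_ne_zero hQ.ne_zero))
    (by rw [hP, inv_mul_cancel₀ hQ.ne_zero]) hUP hNQ v c).of_simTo hs
  obtain ⟨A, P', hA, hP', hA0, hMA⟩ := hF
  rw [hA₁, hA₂] at hA
  have hA0' : A.det ≠ 0 := by rw [hA]; exact mul_ne_zero h.d_ne (pow_ne_zero _ l.ne_zero)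
  obtain ⟨q1, q2⟩ := cop_quad_lin h (l : K) l.ne_zero
  refine ⟨_, A, P', hA0', hP', hA0, ?_, ⟨fun he => by rw [hA]; exact h0 he, fun _ => ?_⟩, Or.inl hMA⟩
  · exact Cop.mul_left ((cop_quad h).mul_right (q1.pow_right _))
      (((q2.mul_right ((cop_lin hll).pow_right _)).pow_left _))
  · simp only [eval_mul, eval_pow, eval_sub, eval_X, eval_C]
    refine mul_ne_zero ?_ (pow_ne_zero _ (quot_ne hA0' hll))
    intro e0
    exact h.noroot (σ A.det / A.det) (by rw [← e0]; simp [quad]; ring)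

end H27.SUFac
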