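import Cfsg.Agent.H27.SUFac.Corner

/-!
A corner of size two which is the identity or has trace different from two.
-/

set_option autoImplicit false
set_option linter.unusedSectionVars false
set_option linter.unusedSimpArgs false

namespace H27.SUFac

open Matrix H41
open H31.Com (SimTo)
open H89.CN (Sim)

variable {K : Type*} [Field K]

/-- Some vector and its first two images are independent. -/
def Cyc3 {n : ℕ} (M : Matrix (Fin n) (Fin n) K) : Prop :=
  ∃ x : Fin n → K, LinearIndependent K ![x, M *ᵥ x, M *ᵥ (M *ᵥ x)]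

/-- The corner asked for. -/
def Top {k : ℕ} (M : Matrix (Fin (k + 3)) (Fin (k + 3)) K) : Prop :=
  ∃ (U : Matrix (Fin 2) (Fin 2) K) (v : Matrix (Fin 2) (Fin (k + 1)) K) (c : Matrix (Fin (k + 1)) (Fin 2) K)
    (N : Matrix (Fin (k + 1)) (Fin (k + 1)) K), U.det = 1 ∧ N.det = 1 ∧
    (U = 1 ∨ ((∀ μ : K, U ≠ μ • 1) ∧ U.trace ≠ 2)) ∧ SimTo M (fromBlocks U (U * v) c (c * v + N))

/-- Independent vectors are the first columns of an invertible matrix. -/
theorem exists_cols {j n : ℕ} (hj : j ≤ n) {w : Fin j → Fin n → K} (hw : LinearIndependent K w) :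
    ∃ P : Matrix (Fin n) (Fin n) K, IsUnit P.det ∧ ∀ i : Fin j, P *ᵥ Pi.single (Fin.castLE hj i) 1 = w i := by
  classical
  let B := Module.Basis.sumExtend hw
  haveI : Fintype (Module.Basis.sumExtendIndex hw) :=
    @Fintype.sumRight (Fin j) _ (FiniteDimensional.fintypeBasisIndex B)
  have hcard : Fintype.card (Module.Basis.sumExtendIndex hw) = n - j := by
    have := Module.finrank_eq_card_basis B
    rw [Module.finrank_fin_fun, Fintype.card_sum, Fintype.card_fin] at this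
    omega
  let e : Fin j ⊕ Module.Basis.sumExtendIndex hw ≃ Fin n :=
    ((Equiv.sumCongr (Equiv.refl _) (Fintype.equivFinOfCardEq hcard)).trans finSumFinEquiv).trans
      (finCongr (Nat.add_sub_cancel' hj))
  let B' := B.reindex e
  let P : Matrix (Fin n) (Fin n) K := Matrix.of fun a b => B' b a
  refine ⟨P, ?_, fun i => ?_⟩
  · rw [← Matrix.isUnit_iff_isUnit_det, ← Matrix.linearIndependent_cols_iff_isUnit]
    exact B'.linearIndependent
  · have h1 : B' (Fin.castLE hj i) = w i := by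
      have : e.symm (Fin.castLE hj i) = Sum.inl i := by
        rw [Equiv.symm_apply_eq]; exact Fin.ext (by simp [e])
      simp [B', this, B, Module.Basis.sumExtend]; rfl
    rw [Matrix.mulVec_single_one, ← h1]
    rfl

/-- A corner which can be moved to a companion block of trace zero. -/
theorem top_of_shear {k : ℕ} {M : Matrix (Fin (k + 3)) (Fin (k + 3)) K} (hM : M.det = 1) (h2 : (2 : K) ≠ 0)
    {G : Matrix (Fin 2 ⊕ Fin (k + 1)) (Fin 2 ⊕ Fin (k + 1)) K} (hs : SimTo M G)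
    (T : Matrix (Fin 2) (Fin (k + 1)) K) (hT : G.toBlocks₁₁ + T * G.toBlocks₂₁ = !![0, -1; 1, 0]) : Top M := by
  set U : Matrix (Fin 2) (Fin 2) K := !![0, -1; 1, 0] with hU
  set R := G.toBlocks₁₂ + T * G.toBlocks₂₂ - U * T
  set D := G.toBlocks₂₂ - G.toBlocks₂₁ * T
  set Ui : Matrix (Fin 2) (Fin 2) K := !![0, 1; -1, 0] with hUi
  have hUU : U * Ui = 1 := by ext i j; fin_cases i <;> fin_cases j <;> simp [hU, hUi]
  have hv : U * (Ui * R) = R := by rw [← Matrix.mul_assoc, hUU, Matrix.one_mul]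
  have hGe : fromBlocks U (U * (Ui * R)) G.toBlocks₂₁ (G.toBlocks₂₁ * (Ui * R) + (D - G.toBlocks₂₁ * (Ui * R))) =
      fromBlocks 1 T 0 1 * G * fromBlocks 1 (-T) 0 1 := by
    conv_rhs => rw [← fromBlocks_toBlocks G]
    rw [hv, add_sub_cancel, fromBlocks_multiply, fromBlocks_multiply]
    simp [R, D, hT, sub_eq_add_neg, add_comm]
  have hsim : Sim G (fromBlocks U (U * (Ui * R)) G.toBlocks₂₁ (G.toBlocks₂₁ * (Ui * R) + (D - G.toBlocks₂₁ * (Ui * R)))) := by
    refine ⟨fromBlocks 1 T 0 1, by simp, ?_⟩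
    rw [hGe, Matrix.mul_assoc, show fromBlocks 1 (-T) 0 1 * fromBlocks 1 T 0 1 =
      (1 : Matrix (Fin 2 ⊕ Fin (k + 1)) (Fin 2 ⊕ Fin (k + 1)) K) by simp [fromBlocks_multiply], Matrix.mul_one]
  obtain ⟨e, he⟩ := hs
  have hs' : SimTo M (fromBlocks U (U * (Ui * R)) G.toBlocks₂₁ (G.toBlocks₂₁ * (Ui * R) + (D - G.toBlocks₂₁ * (Ui * R)))) :=
    ⟨e, he.trans (hsim.reindex e)⟩
  have hdU : U.det = 1 := by simp [hU, det_fin_two]
  refine ⟨U, Ui * R, G.toBlocks₂₁, D - G.toBlocks₂₁ * (Ui * R), hdU, ?_, Or.inr ⟨fun μ h => ?_, ?_⟩, hs'⟩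
  · obtain ⟨e', he'⟩ := hs'
    have hd := he'.det_eq
    rw [det_reindex_self, hM, show ∀ N, fromBlocks U (U * (Ui * R)) G.toBlocks₂₁ (G.toBlocks₂₁ * (Ui * R) + N) =
      fromBlocks U 0 G.toBlocks₂₁ N * fromBlocks 1 (Ui * R) 0 1 from fun N => by simp [fromBlocks_multiply],
      det_mul, det_fromBlocks_zero₁₂, hdU, one_mul] at hd
    simpa using hd.symm
  · have := congrFun (congrFun h 1) 0
    simp [hU] at this
  · simpa [hU, Matrix.trace_fin_two] using h2.symm

/-- The matrix in other coordinates, seen on the head and the rest. -/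
theorem simTo_head {k : ℕ} {M P : Matrix (Fin (k + 3)) (Fin (k + 3)) K} (hP : IsUnit P.det) :
    SimTo M (Matrix.reindex (headEquiv (k + 1)).symm (headEquiv (k + 1)).symm (P⁻¹ * M * P)) := by
  refine ⟨headEquiv (k + 1), Sim.symm ⟨P, hP, ?_⟩⟩
  have h : Matrix.reindex (headEquiv (k + 1)) (headEquiv (k + 1))
      (Matrix.reindex (headEquiv (k + 1)).symm (headEquiv (k + 1)).symm (P⁻¹ * M * P)) = P⁻¹ * M * P := by
    ext i j; simp
  rw [h, Matrix.mul_assoc P⁻¹, ← Matrix.mul_assoc P, Matrix.mul_nonsing_inv _ hP, Matrix.one_mul]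

theorem conj_single {n : ℕ} {M P : Matrix (Fin n) (Fin n) K} (hP : IsUnit P.det) {a b : Fin n}
    (h : M *ᵥ (P *ᵥ Pi.single a 1) = P *ᵥ Pi.single b 1) (i : Fin n) :
    (P⁻¹ * M * P) i a = if i = b then 1 else 0 := by
  have h1 : (P⁻¹ * M * P) *ᵥ Pi.single a 1 = Pi.single b 1 := by
    rw [← Matrix.mulVec_mulVec, ← Matrix.mulVec_mulVec, h, Matrix.mulVec_mulVec, Matrix.nonsing_inv_mul _ hP,
      Matrix.one_mulVec]
  rw [Matrix.mulVec_single_one] at h1
  simpa [Pi.single_apply] using congrFun h1 i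

theorem top_of_cyc3 {k : ℕ} {M : Matrix (Fin (k + 3)) (Fin (k + 3)) K} (hM : M.det = 1) (h2 : (2 : K) ≠ 0)
    (h : Cyc3 M) : Top M := by
  obtain ⟨x, hx⟩ := h
  obtain ⟨P, hP, hc⟩ := exists_cols (n := k + 3) (by omega) hx
  have e0 := conj_single (M := M) hP (a := Fin.castLE (by omega) (0 : Fin 3)) (b := Fin.castLE (by omega) (1 : Fin 3))
    (by rw [hc 0, hc 1]; rfl)
  have e1 := conj_single (M := M) hP (a := Fin.castLE (by omega) (1 : Fin 3)) (b := Fin.castLE (by omega) (2 : Fin 3))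
    (by rw [hc 1, hc 2]; rfl)
  set G := Matrix.reindex (headEquiv (k + 1)).symm (headEquiv (k + 1)).symm (P⁻¹ * M * P) with hG
  refine top_of_shear hM h2 (simTo_head hP)
    (Matrix.of fun i l => if l = 0 then (!![0, -1; 1, 0] - G.toBlocks₁₁ : Matrix (Fin 2) (Fin 2) K) i 1 else 0) ?_
  rw [← hG]
  ext i a
  have key : (headEquiv (k + 1)) (Sum.inl 0) = Fin.castLE (by omega) (0 : Fin 3) ∧
      (headEquiv (k + 1)) (Sum.inl 1) = Fin.castLE (by omega) (1 : Fin 3) ∧
      (headEquiv (k + 1)) (Sum.inr 0) = Fin.castLE (by omega) (2 : Fin 3) := ⟨rfl, rfl, rfl⟩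
  obtain ⟨k0, k1, k2⟩ := key
  have col0 : ∀ s, G s (Sum.inl 0) = if s = Sum.inl 1 then 1 else 0 := fun s => by
    simp only [hG, reindex_apply, submatrix_apply, Equiv.symm_symm, k0, e0, ← k1, EmbeddingLike.apply_eq_iff_eq]
  have col1 : ∀ s, G s (Sum.inl 1) = if s = Sum.inr 0 then 1 else 0 := fun s => by
    simp only [hG, reindex_apply, submatrix_apply, Equiv.symm_symm, k1, e1, ← k2, EmbeddingLike.apply_eq_iff_eq]
  rw [Matrix.add_apply, Matrix.mul_apply]
  fin_cases a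
  · fin_cases i <;> simp [toBlocks₁₁, toBlocks₂₁, col0]
  · simp [toBlocks₁₁, toBlocks₂₁, col1]

theorem top_of_four {k : ℕ} {M : Matrix (Fin (k + 3)) (Fin (k + 3)) K} (hM : M.det = 1) (h2 : (2 : K) ≠ 0)
    {x u : Fin (k + 3) → K} (hk : 1 ≤ k) (h : LinearIndependent K ![x, u, M *ᵥ x, M *ᵥ u]) : Top M := by
  obtain ⟨P, hP, hc⟩ := exists_cols (n := k + 3) (by omega) h
  have e0 := conj_single (M := M) hP (a := Fin.castLE (by omega) (0 : Fin 4)) (b := Fin.castLE (by omega) (2 : Fin 4))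
    (by rw [hc 0, hc 2]; rfl)
  have e1 := conj_single (M := M) hP (a := Fin.castLE (by omega) (1 : Fin 4)) (b := Fin.castLE (by omega) (3 : Fin 4))
    (by rw [hc 1, hc 3]; rfl)
  set G := Matrix.reindex (headEquiv (k + 1)).symm (headEquiv (k + 1)).symm (P⁻¹ * M * P) with hG
  obtain ⟨k, rfl⟩ : ∃ j, k = j + 1 := ⟨k - 1, by omega⟩
  refine top_of_shear hM h2 (simTo_head hP)
    (Matrix.of fun i l => if l = 0 then (!![0, -1; 1, 0] - G.toBlocks₁₁ : Matrix (Fin 2) (Fin 2) K) i 0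
      else if l = 1 then (!![0, -1; 1, 0] - G.toBlocks₁₁ : Matrix (Fin 2) (Fin 2) K) i 1 else 0) ?_
  rw [← hG]
  ext i a
  have key : (headEquiv (k + 2)) (Sum.inl 0) = Fin.castLE (by omega) (0 : Fin 4) ∧
      (headEquiv (k + 2)) (Sum.inl 1) = Fin.castLE (by omega) (1 : Fin 4) ∧
      (headEquiv (k + 2)) (Sum.inr 0) = Fin.castLE (by omega) (2 : Fin 4) ∧
      (headEquiv (k + 2)) (Sum.inr 1) = Fin.castLE (by omega) (3 : Fin 4) := ⟨rfl, rfl, rfl, rfl⟩
  obtain ⟨k0, k1, k2, k3⟩ := key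
  have col0 : ∀ s, G s (Sum.inl 0) = if s = Sum.inr 0 then 1 else 0 := fun s => by
    simp only [hG, reindex_apply, submatrix_apply, Equiv.symm_symm, k0, e0, ← k2, EmbeddingLike.apply_eq_iff_eq]
  have col1 : ∀ s, G s (Sum.inl 1) = if s = Sum.inr 1 then 1 else 0 := fun s => by
    simp only [hG, reindex_apply, submatrix_apply, Equiv.symm_symm, k1, e1, ← k3, EmbeddingLike.apply_eq_iff_eq]
  rw [Matrix.add_apply, Matrix.mul_apply]
  fin_cases a
  · simp [toBlocks₁₁, toBlocks₂₁, col0]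
  · simp [toBlocks₁₁, toBlocks₂₁, col1]

theorem indep_three {V : Type*} [AddCommGroup V] [Module K V] {u v w : V} (h : ∀ a b c : K, a • u + b • v + c • w = 0 → a = 0 ∧ b = 0 ∧ c = 0) :
    LinearIndependent K ![u, v, w] := by
  refine Fintype.linearIndependent_iff.2 fun g hg i => ?_
  obtain ⟨h0, h1, h2⟩ := h (g 0) (g 1) (g 2) (by simpa [Fin.sum_univ_three] using hg)
  fin_cases i <;> simpa

/-- Rank one above a scalar: the corner cannot be a transvection. -/
theorem top_of_rankOne {k : ℕ} {M : Matrix (Fin (k + 3)) (Fin (k + 3)) K} (hM : M.det = 1)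
    (hns : ∀ μ : K, M ≠ μ • 1) {μ : K} (hμ : μ ≠ 1) {b : K} (hb : b ≠ 0) (hb2 : b * b ≠ 1)
    {a ρ : Fin (k + 3) → K} (h : M = μ • 1 + vecMulVec a ρ) : Top M := by
  obtain ⟨U, v, c, N, hU, hUns, hN, -, hs⟩ := exists_block M hns hM hb hb2
  refine ⟨U, v, c, N, hU, hN, Or.inr ⟨hUns, fun ht => hμ ?_⟩, hs⟩
  obtain ⟨e, he⟩ := hs
  obtain ⟨P, hP, hPM⟩ := he
  have hblock : U - μ • 1 = Matrix.of fun i j => (P *ᵥ a) (e (Sum.inl i)) * ((ρ ᵥ* P⁻¹) (e (Sum.inl j))) := by
    have hR : Matrix.reindex e e (fromBlocks U (U * v) c (c * v + N)) = μ • 1 + vecMulVec (P *ᵥ a) (ρ ᵥ* P⁻¹) := by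
      rw [← Matrix.mul_vecMulVec, ← Matrix.vecMulVec_mul, h] at *
      calc Matrix.reindex e e (fromBlocks U (U * v) c (c * v + N))
          = Matrix.reindex e e (fromBlocks U (U * v) c (c * v + N)) * P * P⁻¹ := by
            rw [Matrix.mul_assoc, Matrix.mul_nonsing_inv _ hP, Matrix.mul_one]
        _ = _ := by
            rw [← hPM, Matrix.mul_add, Matrix.add_mul, Matrix.mul_smul, Matrix.mul_one, Matrix.smul_mul,
              Matrix.mul_nonsing_inv _ hP, Matrix.mul_assoc P]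
    ext i j
    have h1 := congrFun (congrFun hR (e (Sum.inl i))) (e (Sum.inl j))
    simp [vecMulVec_apply, Matrix.one_apply, e.injective.eq_iff] at h1
    simp [h1, Matrix.one_apply]
  have hd : (U - μ • 1).det = 0 := by rw [hblock, det_fin_two]; simp; ring
  rw [det_fin_two] at hd hU
  rw [Matrix.trace_fin_two] at ht
  simp at hd
  have h1 : (μ - 1) * (μ - 1) = 0 := by linear_combination hd - hU + μ * ht
  exact sub_eq_zero.1 (mul_self_eq_zero.1 h1)

/-- A transvection has an identity corner. -/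
theorem top_of_transvection {k : ℕ} {M : Matrix (Fin (k + 3)) (Fin (k + 3)) K} (hM : M.det = 1) {x y : Fin (k + 3) → K}
    (h : LinearIndependent K ![x, y]) (hx : M *ᵥ x = x) (hy : M *ᵥ y = y) : Top M := by
  obtain ⟨P, hP, hc⟩ := exists_cols (n := k + 3) (by omega) h
  have e0 := conj_single (M := M) hP (a := Fin.castLE (by omega) (0 : Fin 2)) (b := Fin.castLE (by omega) (0 : Fin 2))
    (by rw [hc 0]; exact hx)
  have e1 := conj_single (M := M) hP (a := Fin.castLE (by omega) (1 : Fin 2)) (b := Fin.castLE (by omega) (1 : Fin 2))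
    (by rw [hc 1]; exact hy)
  set G := Matrix.reindex (headEquiv (k + 1)).symm (headEquiv (k + 1)).symm (P⁻¹ * M * P) with hG
  have k0 : (headEquiv (k + 1)) (Sum.inl 0) = Fin.castLE (by omega) (0 : Fin 2) := rfl
  have k1 : (headEquiv (k + 1)) (Sum.inl 1) = Fin.castLE (by omega) (1 : Fin 2) := rfl
  have col0 : ∀ s, G s (Sum.inl 0) = if s = Sum.inl 0 then 1 else 0 := fun s => by
    simp only [hG, reindex_apply, submatrix_apply, Equiv.symm_symm, k0, e0, EmbeddingLike.apply_eq_iff_eq]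
    simp only [← k0, EmbeddingLike.apply_eq_iff_eq]
  have col1 : ∀ s, G s (Sum.inl 1) = if s = Sum.inl 1 then 1 else 0 := fun s => by
    simp only [hG, reindex_apply, submatrix_apply, Equiv.symm_symm, k1, e1]
    simp only [← k1, EmbeddingLike.apply_eq_iff_eq]
  have hGe : G = fromBlocks 1 G.toBlocks₁₂ 0 G.toBlocks₂₂ := by
    conv_lhs => rw [← fromBlocks_toBlocks G]
    congr 1
    · ext i j; fin_cases i <;> fin_cases j <;> simp [toBlocks₁₁, col0, col1]
    · ext i j; fin_cases j <;> simp [toBlocks₂₁, col0, col1]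
  have hs : SimTo M G := simTo_head hP
  refine ⟨1, G.toBlocks₁₂, 0, G.toBlocks₂₂, det_one, ?_, Or.inl rfl, ?_⟩
  · obtain ⟨e, he⟩ := hs
    have hd := he.det_eq
    rw [det_reindex_self, hM, hGe, det_fromBlocks_zero₂₁, det_one, one_mul] at hd
    exact hd.symm
  · rwa [Matrix.one_mul, Matrix.zero_mul, zero_add, ← hGe]

/-- Independence survives an injective linear map. -/
theorem indep_map {V W : Type*} [AddCommGroup V] [Module K V] [AddCommGroup W] [Module K W] {j : ℕ} {v : Fin j → V}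
    {w : Fin j → W} {f : V →ₗ[K] W} (hf : Function.Injective f) (hv : LinearIndependent K v)
    (h : ∀ i, w i = f (v i)) : LinearIndependent K w := by
  rw [show w = f ∘ v from funext h]
  exact hv.map' f (LinearMap.ker_eq_bot.2 hf)

set_option maxHeartbeats 1000000 in
/-- **The corner exists.** -/
theorem exists_top {k : ℕ} (M : Matrix (Fin (k + 3)) (Fin (k + 3)) K) (hns : ∀ μ : K, M ≠ μ • 1) (hM : M.det = 1)
    (h2 : (2 : K) ≠ 0) {b : K} (hb : b ≠ 0) (hb2 : b * b ≠ 1) : Top M := by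
  classical
  by_cases hA : Cyc3 M
  · exact top_of_cyc3 hM h2 hA
  obtain ⟨P, hP, hcol⟩ := exists_conj_first_column hns (0 : K)
  set E := headEquiv (k + 1)
  set H := P⁻¹ * M * P with hH
  set G := Matrix.reindex E.symm E.symm H with hG
  have hMP : M * P = P * H := by
    rw [hH, Matrix.mul_assoc P⁻¹, ← Matrix.mul_assoc P, Matrix.mul_nonsing_inv _ hP, Matrix.one_mul]
  -- coordinates on the head and the rest
  let L : (Fin 2 ⊕ Fin (k + 1) → K) →ₗ[K] (Fin (k + 3) → K) :=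
    (Matrix.mulVecLin P).comp (LinearMap.funLeft K K E.symm)
  have hL : Function.Injective L := fun u v h => by
    have h1 := Matrix.mulVec_injective_of_isUnit ((Matrix.isUnit_iff_isUnit_det _).2 hP) (show
      P *ᵥ (u ∘ E.symm) = P *ᵥ (v ∘ E.symm) from h)
    funext s
    simpa using congrFun h1 (E s)
  have hLG : ∀ u, M *ᵥ L u = L (G *ᵥ u) := fun u => by
    show M *ᵥ (P *ᵥ (u ∘ E.symm)) = P *ᵥ ((G *ᵥ u) ∘ E.symm)
    rw [Matrix.mulVec_mulVec, hMP, ← Matrix.mulVec_mulVec]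
    congr 1
    rw [hG, reindex_apply, submatrix_mulVec_equiv]
    funext i
    simp
  have hG3 : ∀ x, ¬ LinearIndependent K ![x, G *ᵥ x, G *ᵥ (G *ᵥ x)] := fun x hx =>
    hA ⟨L x, indep_map hL hx fun i => by fin_cases i <;> simp [hLG]⟩
  have c0 : G (Sum.inl 0) (Sum.inl 0) = 0 := by
    show H 0 0 = 0
    rw [hcol]; simp
  have c1 : G (Sum.inl 1) (Sum.inl 0) = 1 := by
    show H (0 : Fin (k + 2)).succ 0 = 1
    rw [hcol]; simp
  have c2 : ∀ i, G (Sum.inr i) (Sum.inl 0) = 0 := fun i => by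
    show H i.succ.succ 0 = 0
    rw [hcol, if_neg (Fin.succ_ne_zero _), if_neg]
    intro e
    have h := congrArg Fin.val e
    simp at h
  let vec : K → K → (Fin (k + 1) → K) → (Fin 2 ⊕ Fin (k + 1) → K) := fun y₀ y₁ w => Sum.elim ![y₀, y₁] w
  have htop0 : ∀ (a₀ a₁ : K) (w : Fin (k + 1) → K), (G *ᵥ vec a₀ a₁ w) (Sum.inl 0) =
      G (Sum.inl 0) (Sum.inl 1) * a₁ + ∑ j, G (Sum.inl 0) (Sum.inr j) * w j := fun a₀ a₁ w => by
    simp [vec, Matrix.mulVec, dotProduct, Fintype.sum_sum_type, Fin.sum_univ_two, c0]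
  have htop1 : ∀ (a₀ a₁ : K) (w : Fin (k + 1) → K), (G *ᵥ vec a₀ a₁ w) (Sum.inl 1) =
      a₀ + G (Sum.inl 1) (Sum.inl 1) * a₁ + ∑ j, G (Sum.inl 1) (Sum.inr j) * w j := fun a₀ a₁ w => by
    simp [vec, Matrix.mulVec, dotProduct, Fintype.sum_sum_type, Fin.sum_univ_two, c1]
  have hC : ∀ i, G (Sum.inr i) (Sum.inl 1) = 0 := by
    intro i
    by_contra hi
    refine hG3 (vec 1 0 0) (indep_three fun a a' a'' h => ?_)
    have e1 : G *ᵥ vec 1 0 0 = vec 0 1 0 := by
      funext s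
      rcases s with s | s
      · fin_cases s
        · simp [htop0]; simp [vec]
        · simp [htop1]; simp [vec]
      · simp [vec, Matrix.mulVec, dotProduct, Fintype.sum_sum_type, Fin.sum_univ_two, c2]
    rw [e1] at h
    have h2 := congrFun h (Sum.inr i)
    have h0 := congrFun h (Sum.inl 0)
    have h1 := congrFun h (Sum.inl 1)
    simp [vec, Matrix.mulVec, dotProduct, Fintype.sum_sum_type, Fin.sum_univ_two, hi] at h0 h1 h2
    subst h2
    simp at h0 h1
    exact ⟨h0, h1, rfl⟩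
  have hlow : ∀ (a₀ a₁ : K) (w : Fin (k + 1) → K) (i : Fin (k + 1)),
      (G *ᵥ vec a₀ a₁ w) (Sum.inr i) = (G.toBlocks₂₂ *ᵥ w) i := by
    intro a₀ a₁ w i
    simp [vec, Matrix.mulVec, dotProduct, Fintype.sum_sum_type, Fin.sum_univ_two, c2, hC, toBlocks₂₂]
  by_cases hD : ∀ μ : K, G.toBlocks₂₂ ≠ μ • 1
  · -- four independent vectors
    obtain ⟨j, rfl⟩ : ∃ j, k = j + 1 := by
      rcases k with _ | j
      · refine absurd ?_ (hD (G.toBlocks₂₂ 0 0))
        ext i l
        rw [Subsingleton.elim (α := Fin 1) i 0, Subsingleton.elim (α := Fin 1) l 0]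
        simp
      · exact ⟨j, rfl⟩
    obtain ⟨w, hw⟩ := exists_linearIndependent_apply hD
    have e1 : G *ᵥ vec 1 0 0 = vec 0 1 0 := by
      funext s
      rcases s with s | s
      · fin_cases s
        · simp [htop0]; simp [vec]
        · simp [htop1]; simp [vec]
      · rw [hlow, Matrix.mulVec_zero]; simp [vec]
    refine top_of_four hM h2 (x := L (vec 1 0 0)) (u := L (vec 0 0 w)) (by omega)
      (indep_map (v := ![vec 1 0 0, vec 0 0 w, G *ᵥ vec 1 0 0, G *ᵥ vec 0 0 w]) hL ?_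
        fun i => by fin_cases i <;> simp [hLG])
    refine Fintype.linearIndependent_iff.2 fun g hg => ?_
    simp only [Fin.sum_univ_four, Matrix.cons_val_zero, Matrix.cons_val_one, Matrix.cons_val, e1] at hg
    have hlo : g 1 • w + g 3 • (G.toBlocks₂₂ *ᵥ w) = 0 := by
      funext i
      have := congrFun hg (Sum.inr i)
      simp only [Pi.add_apply, Pi.smul_apply, hlow, Pi.zero_apply] at this
      simpa [vec] using this
    obtain ⟨h1, h3⟩ := LinearIndependent.pair_iff.1 hw _ _ hlo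
    have f0 := congrFun hg (Sum.inl 0)
    have f1 := congrFun hg (Sum.inl 1)
    simp [h1, h3, vec] at f0 f1
    intro i
    fin_cases i <;> simp [h1, h3, f0, f1]
  push Not at hD
  obtain ⟨μ, hμ⟩ := hD
  obtain ⟨δ, hδ⟩ : ∃ δ, G (Sum.inl 0) (Sum.inl 1) = -δ := ⟨_, (neg_neg _).symm⟩
  obtain ⟨T, hT⟩ : ∃ T, G (Sum.inl 1) (Sum.inl 1) = T := ⟨_, rfl⟩
  -- the image of `G - μ` in the plane
  have key : ∀ (y₀ y₁ : K) (j : Fin (k + 1)) (z₀ z₁ : K),
      z₀ = -μ * y₀ - δ * y₁ + G (Sum.inl 0) (Sum.inr j) → z₁ = y₀ + (T - μ) * y₁ + G (Sum.inl 1) (Sum.inr j) →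
      z₀ * z₀ + T * z₀ * z₁ + δ * (z₁ * z₁) = 0 := by
    intro y₀ y₁ j z₀ z₁ hz₀ hz₁
    by_contra hq
    refine hG3 (vec y₀ y₁ (Pi.single j 1)) (indep_three fun a a' a'' h => ?_)
    have hGx : G *ᵥ vec y₀ y₁ (Pi.single j 1) = μ • vec y₀ y₁ (Pi.single j 1) + vec z₀ z₁ 0 := by
      funext s
      rcases s with s | s
      · fin_cases s
        · simp [htop0, hδ, Pi.single_apply]; simp [vec, hz₀]; ring
        · simp [htop1, hT, Pi.single_apply]; simp [vec, hz₁]; ring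
      · rw [hlow, hμ]; simp [vec, Matrix.one_apply, Pi.single_apply]
    have hGz : G *ᵥ vec z₀ z₁ 0 = vec (-δ * z₁) (z₀ + T * z₁) 0 := by
      funext s
      rcases s with s | s
      · fin_cases s
        · simp [htop0, hδ]; simp [vec]
        · simp [htop1, hT]; simp [vec]
      · rw [hlow, Matrix.mulVec_zero]; simp [vec]
    rw [hGx, Matrix.mulVec_add, Matrix.mulVec_smul, hGx, hGz] at h
    have h2 := congrFun h (Sum.inr j)
    have h0 := congrFun h (Sum.inl 0)
    have h1 := congrFun h (Sum.inl 1)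
    simp [vec] at h0 h1 h2
    have ha : a + a' * μ + a'' * (μ * μ) = 0 := by linear_combination h2
    have ha'' : a'' = 0 := (mul_eq_zero.1 (show a'' * (z₀ * z₀ + T * z₀ * z₁ + δ * (z₁ * z₁)) = 0 by
      linear_combination z₀ * h1 - z₁ * h0 - (z₀ * y₁ - z₁ * y₀) * ha)).resolve_right hq
    subst ha''
    have ha' : a' = 0 := by
      by_contra hne
      have z0 : z₀ = 0 := (mul_eq_zero.1 (show a' * z₀ = 0 by linear_combination h0 - y₀ * ha)).resolve_left hne
      have z1 : z₁ = 0 := (mul_eq_zero.1 (show a' * z₁ = 0 by linear_combination h1 - y₁ * ha)).resolve_left hne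
      exact hq (by rw [z0, z1]; ring)
    subst ha'
    exact ⟨by linear_combination ha, rfl, rfl⟩
  have hf : μ * μ - T * μ + δ = 0 := by
    by_contra hf
    obtain ⟨A, hA'⟩ : ∃ A, A = (1 : K) - G (Sum.inl 0) (Sum.inr 0) := ⟨_, rfl⟩
    obtain ⟨B, hB⟩ : ∃ B, B = -G (Sum.inl 1) (Sum.inr 0) := ⟨_, rfl⟩
    obtain ⟨y₁, hy₁⟩ : ∃ y₁, y₁ * (μ * μ - T * μ + δ) = -(A + μ * B) :=
      ⟨-(A + μ * B) / (μ * μ - T * μ + δ), div_mul_cancel₀ _ hf⟩
    have := key (B - (T - μ) * y₁) y₁ 0 1 0 (by linear_combination hy₁ - hA') (by linear_combination -hB)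
    simp at this
  have hrow : ∀ j, G (Sum.inl 0) (Sum.inr j) = -μ * G (Sum.inl 1) (Sum.inr j) := by
    intro j
    by_contra hj
    obtain ⟨A, hA'⟩ : ∃ A, G (Sum.inl 0) (Sum.inr j) = A := ⟨_, rfl⟩
    obtain ⟨B, hB⟩ : ∃ B, G (Sum.inl 1) (Sum.inr j) = B := ⟨_, rfl⟩
    have q0 := key 0 0 j A B (by rw [hA']; ring) (by rw [hB]; ring)
    have q1 := key 1 0 j (-μ + A) (1 + B) (by rw [hA']; ring) (by rw [hB]; ring)
    rw [hA', hB] at hj
    have hne : A + μ * B ≠ 0 := fun e => hj (by linear_combination e)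
    have hν0 : A + (T - μ) * B = 0 := (mul_eq_zero.1 (show (A + μ * B) * (A + (T - μ) * B) = 0 by
      linear_combination q0 - (B * B) * hf)).resolve_left hne
    have hν1 : (-μ + A) + (T - μ) * (1 + B) = 0 := (mul_eq_zero.1 (show
      (A + μ * B) * ((-μ + A) + (T - μ) * (1 + B)) = 0 by
        linear_combination q1 - ((1 + B) * (1 + B)) * hf)).resolve_left hne
    exact hne (by linear_combination hν0 - B * (hν1 - hν0))
  let α : Fin 2 ⊕ Fin (k + 1) → K := vec (-μ) 1 0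
  let ρ : Fin 2 ⊕ Fin (k + 1) → K := vec 1 (T - μ) fun j => G (Sum.inl 1) (Sum.inr j)
  have hGr : ∀ u, G *ᵥ u = μ • u + (ρ ⬝ᵥ u) • α := by
    intro u
    have hu : u = vec (u (Sum.inl 0)) (u (Sum.inl 1)) fun j => u (Sum.inr j) := by
      funext s
      rcases s with s | s
      · fin_cases s <;> rfl
      · rfl
    have hρ : ρ ⬝ᵥ u = u (Sum.inl 0) + (T - μ) * u (Sum.inl 1) + ∑ j, G (Sum.inl 1) (Sum.inr j) * u (Sum.inr j) := by
      simp [ρ, vec, dotProduct, Fintype.sum_sum_type, Fin.sum_univ_two]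
    funext s
    rw [hρ]
    conv_lhs => rw [hu]
    rcases s with s | s
    · fin_cases s
      · have hs : ∑ j, G (Sum.inl 0) (Sum.inr j) * u (Sum.inr j) =
            -μ * ∑ j, G (Sum.inl 1) (Sum.inr j) * u (Sum.inr j) := by
          rw [Finset.mul_sum]; exact Finset.sum_congr rfl fun j _ => by rw [hrow]; ring
        simp [htop0, hδ, hs, α]; simp [vec]
        linear_combination -u (Sum.inl 1) * hf
      · simp [htop1, hT, α]; simp [vec]; ring
    · rw [hlow, hμ]; simp [α, vec, Matrix.smul_mulVec]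
  by_cases h1 : μ = 1
  · -- a transvection
    subst h1
    have hfix : ∀ z, ρ ⬝ᵥ z = 0 → M *ᵥ L z = L z := fun z hz => by rw [hLG, hGr, hz]; simp
    refine top_of_transvection hM (x := L (vec (-(T - 1)) 1 0))
      (y := L (vec (-G (Sum.inl 1) (Sum.inr 0)) 0 (Pi.single 0 1))) ?_ (hfix _ ?_) (hfix _ ?_)
    · refine indep_map (v := ![vec (-(T - 1)) 1 0, vec (-G (Sum.inl 1) (Sum.inr 0)) 0 (Pi.single 0 1)]) hL ?_
        fun i => by fin_cases i <;> simp
      rw [LinearIndependent.pair_iff]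
      intro s t h
      have e1 := congrFun h (Sum.inl 1)
      have e2 := congrFun h (Sum.inr 0)
      simp [vec] at e1 e2
      exact ⟨e1, e2⟩
    · simp [ρ, vec, dotProduct, Fintype.sum_sum_type, Fin.sum_univ_two]
    · simp [ρ, vec, dotProduct, Fintype.sum_sum_type, Fin.sum_univ_two, Pi.single_apply]
  · refine top_of_rankOne hM hns h1 hb hb2 (a := L α) (ρ := (ρ ∘ E.symm) ᵥ* P⁻¹) ?_
    refine Matrix.ext_iff_mulVec.2 fun x => ?_
    obtain ⟨u, rfl⟩ : ∃ u, L u = x := by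
      refine ⟨(P⁻¹ *ᵥ x) ∘ E, ?_⟩
      show P *ᵥ (((P⁻¹ *ᵥ x) ∘ E) ∘ E.symm) = x
      rw [Function.comp_assoc, Equiv.self_comp_symm, Function.comp_id, Matrix.mulVec_mulVec,
        Matrix.mul_nonsing_inv _ hP, Matrix.one_mulVec]
    rw [hLG, hGr, map_add, map_smul, map_smul, Matrix.add_mulVec, Matrix.smul_mulVec, Matrix.one_mulVec,
      Matrix.vecMulVec_mulVec]
    congr 1
    have : ((ρ ∘ E.symm) ᵥ* P⁻¹) ⬝ᵥ L u = ρ ⬝ᵥ u := by
      rw [← Matrix.dotProduct_mulVec]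
      show (ρ ∘ E.symm) ⬝ᵥ (P⁻¹ *ᵥ (P *ᵥ (u ∘ E.symm))) = _
      rw [Matrix.mulVec_mulVec, Matrix.nonsing_inv_mul _ hP, Matrix.one_mulVec]
      exact Equiv.sum_comp E.symm fun s => ρ s * u s
    rw [this]
    simp

end H27.SUFac
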